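import Mathlib

/-!
A finite group acting on a finite abelian group: fixed points of subgroups, orbit sums over
`p`-subgroups, independence of fixed subgroups, and the existence of a maximal subgroup of an
elementary abelian group with nontrivial fixed points.
-/

set_option autoImplicit false

namespace Cfsg.Agent.Lib.ClassFixed58

open Subgroup

variable {H : Type*} [Group H] {V : Type*} [AddCommGroup V] (ρ : H →* AddMonoid.End V)

theorem act_mul (a b : H) (v : V) : ρ (a * b) v = ρ a (ρ b v) := by rw [map_mul]; rfl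

theorem act_one (v : V) : ρ 1 v = v := by rw [map_one]; rfl

theorem act_inv_act (a : H) (v : V) : ρ a⁻¹ (ρ a v) = v := by
  rw [← act_mul, inv_mul_cancel, act_one]

theorem act_act_inv (a : H) (v : V) : ρ a (ρ a⁻¹ v) = v := by
  rw [← act_mul, mul_inv_cancel, act_one]

theorem act_injective (a : H) : Function.Injective (ρ a) :=
  Function.LeftInverse.injective (g := ρ a⁻¹) (act_inv_act ρ a)

theorem act_eq_one {a : H} (h : ∀ v, ρ a v = v) : ρ a = 1 :=
  AddMonoidHom.ext h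

theorem act_pow_fixed {a : H} {v : V} (h : ρ a v = v) (n : ℕ) : ρ (a ^ n) v = v := by
  induction n with
  | zero => rw [pow_zero, act_one]
  | succ n ih => rw [pow_succ, act_mul, h, ih]

theorem act_inv_fixed {a : H} {v : V} (h : ρ a v = v) : ρ a⁻¹ v = v := by
  conv_lhs => rw [← h]
  exact act_inv_act ρ a v

/-- The fixed points of a subgroup. -/
def fixed (B : Subgroup H) : AddSubgroup V where
  carrier := {v | ∀ b ∈ B, ρ b v = v}
  add_mem' {u v} hu hv b hb := by rw [map_add, hu b hb, hv b hb]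
  zero_mem' b _ := map_zero _
  neg_mem' {v} hv b hb := by rw [map_neg, hv b hb]

theorem mem_fixed {B : Subgroup H} {v : V} : v ∈ fixed ρ B ↔ ∀ b ∈ B, ρ b v = v := Iff.rfl

theorem mem_fixed_zpowers {x : H} {v : V} : v ∈ fixed ρ (zpowers x) ↔ ρ x v = v := by
  refine ⟨fun h => h x (mem_zpowers x), fun h b hb => ?_⟩
  obtain ⟨i, rfl⟩ := mem_zpowers_iff.mp hb
  obtain ⟨n, rfl | rfl⟩ := Int.eq_nat_or_neg i
  · rw [zpow_natCast]; exact act_pow_fixed ρ h n
  · rw [zpow_neg, zpow_natCast]; exact act_inv_fixed ρ (act_pow_fixed ρ h n)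

theorem fixed_anti {B C : Subgroup H} (h : B ≤ C) : fixed ρ C ≤ fixed ρ B :=
  fun _ hv b hb => hv b (h hb)

theorem mem_fixed_sup {B C : Subgroup H} {v : V} (hB : v ∈ fixed ρ B) (hC : v ∈ fixed ρ C) :
    v ∈ fixed ρ (B ⊔ C) := by
  let S : Subgroup H :=
    { carrier := {b | ρ b v = v}
      mul_mem' := fun {a b} ha hb => show ρ (a * b) v = v by rw [act_mul, hb, ha]
      one_mem' := act_one ρ v
      inv_mem' := fun {a} ha => act_inv_fixed ρ ha }
  have h : B ⊔ C ≤ S := sup_le (fun b hb => hB b hb) (fun c hc => hC c hc)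
  exact fun b hb => h hb

/-- The conjugate subgroup `x B x⁻¹`. -/
def cj (x : H) (B : Subgroup H) : Subgroup H := B.comap (MulAut.conj x⁻¹).toMonoidHom

theorem mem_cj {x y : H} {B : Subgroup H} : y ∈ cj x B ↔ x⁻¹ * y * x ∈ B := by
  simp [cj]

theorem conj_mem_cj {x b : H} {B : Subgroup H} : x * b * x⁻¹ ∈ cj x B ↔ b ∈ B := by
  simp [mem_cj, mul_assoc]

theorem cj_one (B : Subgroup H) : cj 1 B = B := by
  ext y; simp [mem_cj]

theorem cj_mul (x y : H) (B : Subgroup H) : cj (x * y) B = cj x (cj y B) := by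
  ext z; simp [mem_cj, mul_assoc]

theorem cj_le_cj {x : H} {B C : Subgroup H} (h : B ≤ C) : cj x B ≤ cj x C :=
  Subgroup.comap_mono h

theorem cj_of_normal (x : H) (B : Subgroup H) [hB : B.Normal] : cj x B = B := by
  ext z
  rw [mem_cj]
  refine ⟨fun h => ?_, fun h => by simpa using hB.conj_mem z h x⁻¹⟩
  have := hB.conj_mem _ h x
  simpa [mul_assoc] using this

theorem act_mem_fixed_cj {x : H} {B : Subgroup H} {v : V} (hv : v ∈ fixed ρ B) :
    ρ x v ∈ fixed ρ (cj x B) := by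
  intro y hy
  rw [← act_mul, show y * x = x * (x⁻¹ * y * x) by group, act_mul, hv _ (mem_cj.mp hy)]

theorem card_fixed_cj [Finite V] (x : H) (B : Subgroup H) :
    Nat.card (fixed ρ (cj x B)) = Nat.card (fixed ρ B) := by
  refine le_antisymm ?_ ?_
  · refine Nat.card_le_card_of_injective (fun v => ⟨ρ x⁻¹ v.1, ?_⟩) fun u v h =>
      Subtype.ext (act_injective ρ x⁻¹ (congrArg Subtype.val h))
    have := act_mem_fixed_cj ρ (x := x⁻¹) v.2
    rwa [← cj_mul, inv_mul_cancel, cj_one] at this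
  · exact Nat.card_le_card_of_injective (fun v => ⟨ρ x v.1, act_mem_fixed_cj ρ v.2⟩) fun u v h =>
      Subtype.ext (act_injective ρ x (congrArg Subtype.val h))

/-- Multiplication by a power of `p` has trivial kernel when `p` does not divide `|V|`. -/
theorem eq_zero_of_nsmul {p : ℕ} (hp : p.Prime) (hV : ¬ p ∣ Nat.card V) {k : ℕ} {v : V}
    (h : p ^ k • v = 0) : v = 0 := by
  have h1 : addOrderOf v ∣ p ^ k := addOrderOf_dvd_iff_nsmul_eq_zero.mpr h
  have h2 : addOrderOf v ∣ Nat.card V := addOrderOf_dvd_natCard v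
  have h3 : (p ^ k).Coprime (Nat.card V) := (hp.coprime_iff_not_dvd.mpr hV).pow_left k
  exact AddMonoid.addOrderOf_eq_one_iff.mp (Nat.dvd_one.mp (h3 ▸ Nat.dvd_gcd h1 h2))

theorem card_nsmul_eq_zero {p : ℕ} [hp : Fact p.Prime] (hV : ¬ p ∣ Nat.card V) {B : Subgroup H}
    [Finite B] (hB : IsPGroup p B) {v : V} (h : Nat.card B • v = 0) : v = 0 := by
  obtain ⟨k, hk⟩ := hB.exists_card_eq
  exact eq_zero_of_nsmul hp.out hV (hk ▸ h)

section Avg

variable [Finite H]

/-- The sum over a subgroup. -/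
noncomputable def avg (B : Subgroup H) : AddMonoid.End V :=
  haveI := Fintype.ofFinite B
  ∑ b : B, ρ (b : H)

theorem avg_apply (B : Subgroup H) [Fintype B] (v : V) :
    avg ρ B v = ∑ b : B, ρ (b : H) v := by
  rw [avg]
  exact (AddMonoidHom.finsetSum_apply _ _ v).trans
    (Finset.sum_congr (Finset.ext fun b => by simp) fun _ _ => rfl)

theorem avg_mem (B : Subgroup H) (v : V) : avg ρ B v ∈ fixed ρ B := by
  have := Fintype.ofFinite B
  intro c hc
  rw [avg_apply, map_sum]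
  refine Fintype.sum_bijective (fun b : B => ⟨c, hc⟩ * b) (Group.mulLeft_bijective _) _ _ fun b => ?_
  rw [← act_mul]
  rfl

theorem avg_of_mem {B : Subgroup H} {v : V} (hv : v ∈ fixed ρ B) :
    avg ρ B v = Nat.card B • v := by
  have := Fintype.ofFinite B
  rw [avg_apply, Finset.sum_congr rfl (fun (b : B) _ => hv b b.2), Finset.sum_const,
    Finset.card_univ, Nat.card_eq_fintype_card]

theorem act_avg {x : H} {B : Subgroup H} (hx : ∀ b ∈ B, x * b * x⁻¹ ∈ B) (v : V) :
    ρ x (avg ρ B v) = avg ρ B (ρ x v) := by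
  have := Fintype.ofFinite B
  rw [avg_apply, avg_apply, map_sum]
  refine Fintype.sum_bijective (fun b : B => (⟨x * b * x⁻¹, hx b b.2⟩ : B))
    (Finite.injective_iff_bijective.mp fun a b h => Subtype.ext (by simpa using h)) _ _ fun b => ?_
  rw [← act_mul, ← act_mul]
  congr 2
  group

theorem avg_mem_of_comm {B C : Subgroup H} (hBC : ∀ c ∈ C, ∀ b ∈ B, c * b = b * c) {v : V}
    (hv : v ∈ fixed ρ C) : avg ρ B v ∈ fixed ρ C := by
  intro c hc
  rw [act_avg ρ (fun b hb => by rw [hBC c hc b hb, mul_inv_cancel_right]; exact hb), hv c hc]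

/-- Fixed subgroups of pairwise commuting `p`-subgroups with no common fixed point are
independent: components of a vanishing sum vanish. -/
theorem eq_zero_of_sum_eq_zero {p : ℕ} [Fact p.Prime] (hV : ¬ p ∣ Nat.card V) {ι : Type*}
    [Fintype ι] (L : ι → Subgroup H) (hL : ∀ i, IsPGroup p (L i))
    (hcomm : ∀ i j, ∀ a ∈ L i, ∀ b ∈ L j, a * b = b * a)
    (hdisj : ∀ i j, i ≠ j → ∀ v ∈ fixed ρ (L i), v ∈ fixed ρ (L j) → v = 0)
    (u : ι → V) (hu : ∀ i, u i ∈ fixed ρ (L i)) (hsum : ∑ i, u i = 0) (j : ι) : u j = 0 := by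
  refine card_nsmul_eq_zero hV (hL j) ?_
  have h := congrArg (avg ρ (L j)) hsum
  rw [map_sum, map_zero, Finset.sum_eq_single_of_mem j (Finset.mem_univ j)
    (fun i _ hij => hdisj i j hij _ (avg_mem_of_comm ρ (hcomm i j) (hu i)) (avg_mem ρ _ _)),
    avg_of_mem ρ (hu j)] at h
  exact h

theorem pow_card_le_card [Finite V] {p : ℕ} [Fact p.Prime] (hV : ¬ p ∣ Nat.card V) {ι : Type*}
    [Finite ι] (L : ι → Subgroup H) (hL : ∀ i, IsPGroup p (L i))
    (hcomm : ∀ i j, ∀ a ∈ L i, ∀ b ∈ L j, a * b = b * a)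
    (hdisj : ∀ i j, i ≠ j → ∀ v ∈ fixed ρ (L i), v ∈ fixed ρ (L j) → v = 0)
    {c : ℕ} (hc : ∀ i, c ≤ Nat.card (fixed ρ (L i))) : c ^ Nat.card ι ≤ Nat.card V := by
  have := Fintype.ofFinite ι
  have hinj : Function.Injective (fun u : (i : ι) → fixed ρ (L i) => ∑ i, (u i : V)) := by
    intro u w h
    funext i
    refine Subtype.ext (sub_eq_zero.mp (eq_zero_of_sum_eq_zero ρ hV L hL hcomm hdisj
      (fun i => (u i : V) - w i) (fun i => sub_mem (u i).2 (w i).2) ?_ i))
    simp only [Finset.sum_sub_distrib]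
    exact sub_eq_zero.mpr h
  refine le_trans ?_ (Nat.card_le_card_of_injective _ hinj)
  rw [Nat.card_pi, Nat.card_eq_fintype_card, ← Finset.card_univ, ← Finset.prod_const]
  exact Finset.prod_le_prod' fun i _ => hc i

end Avg

/-- `K` is a maximal subgroup of `A`. -/
def IsMaxIn (K A : Subgroup H) : Prop := K < A ∧ ∀ L : Subgroup H, L ≤ A → K < L → L = A

theorem IsMaxIn.sup_eq {K L A : Subgroup H} (hK : IsMaxIn K A) (hL : IsMaxIn L A) (h : K ≠ L) :
    K ⊔ L = A := by
  refine hK.2 _ (sup_le hK.1.le hL.1.le) (lt_of_le_of_ne le_sup_left fun he => ?_)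
  have hLK : L ≤ K := he ▸ le_sup_right
  exact hK.1.ne (hL.2 K hK.1.le (lt_of_le_of_ne hLK (Ne.symm h)))

theorem IsMaxIn.cj {K A : Subgroup H} (hK : IsMaxIn K A) {x : H} (hx : cj x A = A) :
    IsMaxIn (cj x K) A := by
  have hx' : ClassFixed58.cj x⁻¹ A = A := by
    conv_lhs => rw [← hx]
    rw [← cj_mul, inv_mul_cancel, cj_one]
  refine ⟨?_, fun L hL hlt => ?_⟩
  · refine lt_of_le_of_ne (hx ▸ cj_le_cj hK.1.le) fun he => hK.1.ne ?_
    rw [← cj_one K, ← inv_mul_cancel x, cj_mul, he, hx']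
  · have h1 : ClassFixed58.cj x⁻¹ L = A := by
      refine hK.2 _ (hx' ▸ cj_le_cj hL) ?_
      have h2 : K ≤ ClassFixed58.cj x⁻¹ L := by
        have := cj_le_cj (x := x⁻¹) hlt.le
        rwa [← cj_mul, inv_mul_cancel, cj_one] at this
      refine lt_of_le_of_ne h2 fun he => hlt.ne ?_
      rw [he, ← cj_mul, mul_inv_cancel, cj_one]
    rw [← hx, ← h1, ← cj_mul, mul_inv_cancel, cj_one]

/-- An elementary abelian group without fixed points has a maximal subgroup with fixed points. -/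
theorem exists_isMaxIn [Finite H] [Finite V] [Nontrivial V] {p : ℕ} [hp : Fact p.Prime]
    (hV : ¬ p ∣ Nat.card V) (A : Subgroup H) (hcomm : ∀ a ∈ A, ∀ b ∈ A, a * b = b * a)
    (hexp : ∀ a ∈ A, a ^ p = 1) (hfix : fixed ρ A = ⊥) :
    ∃ K : Subgroup H, IsMaxIn K A ∧ fixed ρ K ≠ ⊥ := by
  have hbot : fixed ρ (⊥ : Subgroup H) ≠ ⊥ := by
    obtain ⟨v, hv⟩ := exists_ne (0 : V)
    refine fun h => hv (AddSubgroup.mem_bot.mp (h ▸ fun b hb => ?_))
    rw [mem_bot.mp hb, act_one]
  obtain ⟨K, hK⟩ := (Set.toFinite {K : Subgroup H | K ≤ A ∧ fixed ρ K ≠ ⊥}).exists_maximal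
    ⟨⊥, bot_le, hbot⟩
  obtain ⟨hKA, hKne⟩ := hK.1
  refine ⟨K, ⟨lt_of_le_of_ne hKA fun h => hKne (h ▸ hfix), fun L hLA hKL => ?_⟩, hKne⟩
  by_contra hLne
  obtain ⟨a, haL, haK⟩ := SetLike.exists_of_lt hKL
  obtain ⟨b, hbA, hbL⟩ := SetLike.exists_of_lt (lt_of_le_of_ne hLA hLne)
  obtain ⟨v, hv, hv0⟩ := (AddSubgroup.bot_or_exists_ne_zero _).resolve_left hKne
  -- the cyclic sum of any element of `A` outside `K` kills `v`
  have hzero : ∀ c ∈ A, c ∉ K → ∑ k ∈ Finset.range p, ρ (c ^ k) v = 0 := by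
    intro c hcA hcK
    have hlt : K < K ⊔ zpowers c :=
      lt_of_le_of_ne le_sup_left fun h => hcK (h ▸ mem_sup_right (mem_zpowers c))
    have hle : K ⊔ zpowers c ≤ A := sup_le hKA (zpowers_le.mpr hcA)
    have hfixKc : fixed ρ (K ⊔ zpowers c) = ⊥ := by
      by_contra hne
      exact hlt.not_ge (hK.2 ⟨hle, hne⟩ hlt.le)
    rw [← AddSubgroup.mem_bot, ← hfixKc]
    refine mem_fixed_sup ρ (AddSubgroup.sum_mem _ fun k _ => fun b hb => ?_)
      ((mem_fixed_zpowers ρ).mpr ?_)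
    · rw [← act_mul, hcomm b (hKA hb) _ (pow_mem hcA k), act_mul, hv b hb]
    · have h1 := Finset.sum_range_succ (fun k => ρ (c ^ k) v) p
      rw [Finset.sum_range_succ', hexp c hcA, pow_zero] at h1
      rw [map_sum, ← add_left_inj (ρ 1 v)]
      refine Eq.trans ?_ h1
      congr 1
      exact Finset.sum_congr rfl fun k _ => by rw [← act_mul, pow_succ']
  have hbpow : ∀ k, k < p → k ≠ 0 → b ^ k ∉ L := by
    intro k hk hk0 hmem
    obtain ⟨m, hm⟩ := exists_pow_eq_self_of_coprime (x := b) (n := k)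
      (Nat.Coprime.coprime_dvd_right (orderOf_dvd_of_pow_eq_one (hexp b hbA))
        ((hp.out.coprime_iff_not_dvd.mpr fun h => hk0
          (Nat.eq_zero_of_dvd_of_lt h hk)).symm))
    exact hbL (hm ▸ pow_mem hmem m)
  have hab : ∀ i, i < p → a * b ^ i ∉ K := by
    intro i hi hmem
    have hbi : b ^ i ∈ L := by
      have := mul_mem (inv_mem haL) (hKL.le hmem)
      rwa [inv_mul_cancel_left] at this
    rcases eq_or_ne i 0 with rfl | h0
    · rw [pow_zero, mul_one] at hmem; exact haK hmem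
    · exact hbpow i hi h0 hbi
  -- summing over the diagonal subgroups leaves `p • v`
  have h1 : ∑ i ∈ Finset.range p, ∑ k ∈ Finset.range p, ρ ((a * b ^ i) ^ k) v = 0 :=
    Finset.sum_eq_zero fun i hi =>
      hzero _ (mul_mem (hLA haL) (pow_mem hbA i)) (hab i (Finset.mem_range.mp hi))
  rw [Finset.sum_comm, Finset.sum_eq_single_of_mem 0 (Finset.mem_range.mpr hp.out.pos)] at h1
  · simp only [pow_zero, act_one, Finset.sum_const, Finset.card_range] at h1
    rw [← pow_one p] at h1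
    exact hv0 (eq_zero_of_nsmul hp.out hV h1)
  · intro k hk hk0
    have h2 := hzero _ (pow_mem hbA k) fun h => hbpow k (Finset.mem_range.mp hk) hk0 (hKL.le h)
    calc ∑ i ∈ Finset.range p, ρ ((a * b ^ i) ^ k) v
        = ∑ i ∈ Finset.range p, ρ (a ^ k) (ρ ((b ^ k) ^ i) v) := by
          refine Finset.sum_congr rfl fun i _ => ?_
          rw [(show Commute a (b ^ i) from hcomm a (hLA haL) _ (pow_mem hbA i)).mul_pow,
            act_mul, ← pow_mul, ← pow_mul, mul_comm]
      _ = 0 := by rw [← map_sum, h2, map_zero]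

end Cfsg.Agent.Lib.ClassFixed58
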