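import Mathlib

/-!
The commutator pairing into a central subgroup of prime order, counted.
-/

set_option autoImplicit false

namespace Cfsg.Agent.Lib.ClassFixed58

open Subgroup

theorem card_monoidHom_le {p : ℕ} [hp : Fact p.Prime] {C : Type*} [Group C] [Finite C]
    (hC : Nat.card C ≤ p) : ∀ (A : Type*) [Group A] [Finite A], IsPGroup p A →
    Nat.card (A →* C) ≤ Nat.card A := by
  suffices ∀ (n : ℕ) (A : Type _) [Group A] [Finite A], Nat.card A ≤ n → IsPGroup p A →
      Nat.card (A →* C) ≤ Nat.card A from fun A _ _ hA => this _ A le_rfl hA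
  intro n
  induction n with
  | zero => intro A _ _ h; exact absurd h (Nat.not_le.mpr Nat.card_pos)
  | succ n ih =>
    intro A _ _ hn hA
    rcases subsingleton_or_nontrivial A with h | h
    · have : Subsingleton (A →* C) := ⟨fun f g => MonoidHom.ext fun a => by
        rw [Subsingleton.elim a 1, map_one, map_one]⟩
      exact (Finite.card_le_one_iff_subsingleton.mpr this).trans Nat.card_pos
    obtain ⟨M, hM, -⟩ := (eq_top_or_exists_le_coatom (⊥ : Subgroup A)).resolve_left bot_ne_top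
    obtain ⟨a, -, haM⟩ := SetLike.exists_of_lt (lt_top_iff_ne_top.mpr hM.1)
    have htop : M ⊔ zpowers a = ⊤ := hM.2 _ (lt_of_le_of_ne le_sup_left fun h =>
      haM (h ▸ mem_sup_right (mem_zpowers a)))
    have hlt : Nat.card M ≤ n := by
      have : Nat.card M < Nat.card A :=
        lt_of_le_of_ne M.card_le_card_group fun h => hM.1 (M.card_eq_iff_eq_top.mp h)
      omega
    have hidx : p ≤ M.index := by
      obtain ⟨k, hk⟩ := hA.index M
      rcases Nat.eq_zero_or_pos k with rfl | hk0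
      · rw [pow_zero] at hk
        exact absurd (M.index_eq_one.mp hk) hM.1
      · rw [hk]; exact Nat.le_self_pow hk0.ne' p
    have hinj : Function.Injective (fun f : A →* C => (f.comp M.subtype, f a)) := by
      intro f g h
      obtain ⟨h1, h2⟩ := Prod.mk.inj h
      refine MonoidHom.ext fun x => ?_
      have hle : M ⊔ zpowers a ≤ f.eqLocus g :=
        sup_le (fun m hm => DFunLike.congr_fun h1 (⟨m, hm⟩ : M)) (zpowers_le.mpr h2)
      exact hle (htop ▸ mem_top x)
    have : Finite (M →* C) := Finite.of_injective _ (DFunLike.coe_injective (F := M →* C))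
    calc Nat.card (A →* C) ≤ Nat.card ((M →* C) × C) := Nat.card_le_card_of_injective _ hinj
      _ = Nat.card (M →* C) * Nat.card C := Nat.card_prod _ _
      _ ≤ Nat.card M * M.index := Nat.mul_le_mul (ih M hlt (hA.to_subgroup M)) (hC.trans hidx)
      _ = Nat.card A := M.card_mul_index

variable {H : Type*} [Group H]

/-- The commutator `y x y⁻¹ x⁻¹`. -/
def cm (y x : H) : H := y * x * y⁻¹ * x⁻¹

theorem cm_eq_one_iff {y x : H} : cm y x = 1 ↔ y * x = x * y := by
  rw [cm, mul_inv_eq_one, mul_inv_eq_iff_eq_mul]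

theorem conj_eq_cm_mul (y x : H) : y * x * y⁻¹ = cm y x * x := by
  rw [cm]; group

theorem cm_eq_cm_iff {y y' x : H} : cm y x = cm y' x ↔ (y'⁻¹ * y) * x = x * (y'⁻¹ * y) := by
  rw [cm, cm, mul_left_inj]
  constructor <;> intro h
  · calc y'⁻¹ * y * x = y'⁻¹ * (y * x * y⁻¹) * y := by group
      _ = x * (y'⁻¹ * y) := by rw [h]; group
  · calc y * x * y⁻¹ = y' * (y'⁻¹ * y * x) * y⁻¹ := by group
      _ = y' * x * y'⁻¹ := by rw [h]; group

variable {Q Z : Subgroup H}

/-- The pairing `x ↦ [y, x]` on `Q/N`. -/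
noncomputable def pairHom (hZ : ∀ c ∈ Z, ∀ a ∈ Q, c * a = a * c) (N : Subgroup H)
    [(N.subgroupOf Q).Normal] (y : H) (hy : ∀ x ∈ Q, cm y x ∈ Z)
    (hN : ∀ x ∈ N, cm y x = 1) : (Q ⧸ N.subgroupOf Q) →* Z :=
  QuotientGroup.lift _
    (MonoidHom.mk' (fun x : Q => (⟨cm y x, hy x x.2⟩ : Z)) fun a b => Subtype.ext (by
      show cm y ((a : H) * b) = cm y a * cm y b
      calc cm y ((a : H) * b) = cm y a * ((a : H) * cm y b * (a : H)⁻¹) := by simp only [cm]; group
        _ = cm y a * cm y b := by rw [← hZ _ (hy b b.2) a a.2, mul_inv_cancel_right]))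
    (fun x hx => Subtype.ext (hN _ (mem_subgroupOf.mp hx)))

theorem coe_pairHom_mk (hZ : ∀ c ∈ Z, ∀ a ∈ Q, c * a = a * c) (N : Subgroup H)
    [(N.subgroupOf Q).Normal] (y : H) (hy : ∀ x ∈ Q, cm y x ∈ Z)
    (hN : ∀ x ∈ N, cm y x = 1) (x : Q) :
    ((pairHom hZ N y hy hN (x : Q ⧸ N.subgroupOf Q) : Z) : H) = cm y x := rfl

/-- Equal pairings give an element centralizing `Q`. -/
theorem comm_of_pairHom_eq (hZ : ∀ c ∈ Z, ∀ a ∈ Q, c * a = a * c) (N : Subgroup H)
    [(N.subgroupOf Q).Normal] {y y' : H} {hy : ∀ x ∈ Q, cm y x ∈ Z}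
    {hN : ∀ x ∈ N, cm y x = 1} {hy' : ∀ x ∈ Q, cm y' x ∈ Z}
    {hN' : ∀ x ∈ N, cm y' x = 1} (h : pairHom hZ N y hy hN = pairHom hZ N y' hy' hN') :
    ∀ x ∈ Q, (y'⁻¹ * y) * x = x * (y'⁻¹ * y) := fun x hx =>
  cm_eq_cm_iff.mp (congrArg Subtype.val (DFunLike.congr_fun h ((⟨x, hx⟩ : Q) : Q ⧸ N.subgroupOf Q)))

end Cfsg.Agent.Lib.ClassFixed58
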