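import Mathlib
import Cfsg.Agent.Lib.PGroup.Critical
import Cfsg.Agent.Lib.PGroup.NormalElem
import Cfsg.Agent.Lib.PGroupNormalSq.Basic
import Cfsg.Agent.Lib.ClassFixed58.Avg
import Cfsg.Agent.Lib.ClassFixed58.Pairing

/-!
The case of a normal `p`-subgroup all of whose normal elementary abelian subgroups are cyclic:
a counting argument gives a vector moved by every conjugate.
-/

set_option autoImplicit false

namespace Cfsg.Agent.Lib.ClassFixed58

open Subgroup
open Cfsg.Agent.Lib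

/-- The final inequality of the count. -/
theorem count_lt {p : ℕ} (hp : p.Prime) (hp2 : p ≠ 2) {n : ℕ} (hn : 1 ≤ n) :
    (p * (p ^ n) ^ 2) ^ p < (p + 1) ^ (p ^ n * (p - 1)) * (p - 1) ^ p := by
  have hp3 : 3 ≤ p := by have := hp.two_le; omega
  rcases eq_or_ne p 3 with rfl | hp3'
  · rcases eq_or_lt_of_le hn with rfl | hn2
    · norm_num
    · have h : 3 * (2 * n + 1) ≤ 2 * 3 ^ n := by
        induction n, hn2 using Nat.le_induction with
        | base => norm_num
        | succ m hm ih =>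
          have h9 : 3 ^ 2 ≤ 3 ^ m := Nat.pow_le_pow_right (by norm_num) hm
          have := ih (by omega)
          rw [pow_succ]
          omega
      calc (3 * (3 ^ n) ^ 2) ^ 3 = 3 ^ (3 * (2 * n + 1)) := by
            rw [← pow_mul, ← pow_succ', ← pow_mul]; ring_nf
        _ ≤ 3 ^ (3 ^ n * 2) := Nat.pow_le_pow_right (by norm_num) (by omega)
        _ < 4 ^ (3 ^ n * 2) := Nat.pow_lt_pow_left (by norm_num) (by positivity)
        _ ≤ (3 + 1) ^ (3 ^ n * (3 - 1)) * (3 - 1) ^ 3 := Nat.le_mul_of_pos_right _ (by norm_num)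
  · have hp5 : 5 ≤ p := by
      by_contra h
      have h4 : p = 4 := by omega
      rw [h4] at hp
      exact absurd hp (by norm_num)
    have h : ∀ m, 2 * m + 3 ≤ (p - 1) * p ^ m := by
      intro m
      induction m with
      | zero => simp; omega
      | succ m ih =>
        have h1 : (p - 1) * p ^ m * 2 ≤ (p - 1) * p ^ m * p := Nat.mul_le_mul_left _ (by omega)
        rw [pow_succ, ← mul_assoc]
        omega
    have h2 : p * (2 * n + 1) ≤ p ^ n * (p - 1) := by
      obtain ⟨m, rfl⟩ : ∃ m, n = m + 1 := ⟨n - 1, by omega⟩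
      calc p * (2 * (m + 1) + 1) ≤ p * ((p - 1) * p ^ m) := Nat.mul_le_mul_left _ (by
            have := h m; omega)
        _ = p ^ (m + 1) * (p - 1) := by ring
    calc (p * (p ^ n) ^ 2) ^ p = p ^ (p * (2 * n + 1)) := by
          rw [← pow_mul, ← pow_succ', ← pow_mul]; ring_nf
      _ ≤ p ^ (p ^ n * (p - 1)) := Nat.pow_le_pow_right hp.pos h2
      _ < (p + 1) ^ (p ^ n * (p - 1)) :=
        Nat.pow_lt_pow_left (Nat.lt_succ_self p) (Nat.mul_ne_zero (pow_ne_zero _ hp.ne_zero)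
          (by omega))
      _ ≤ _ := Nat.le_mul_of_pos_right _ (pow_pos (by omega) p)

variable {H : Type*} [Group H] [Finite H] {V : Type*} [AddCommGroup V] [Finite V]
  (ρ : H →* AddMonoid.End V)

theorem exists_moved_of_cyclic {p : ℕ} [hp : Fact p.Prime] (hp2 : p ≠ 2)
    (hV : ¬ p ∣ Nat.card V) (P : Subgroup H) [hPn : P.Normal] (hP : IsPGroup p P)
    (hfix : ∀ B : Subgroup H, B.Normal → B ≠ ⊥ → fixed ρ B = ⊥)
    (hcyc : ∀ B : Subgroup H, B.Normal → B ≤ P → (∀ a ∈ B, ∀ b ∈ B, a * b = b * a) →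
      (∀ a ∈ B, a ^ p = 1) → Nat.card B ≤ p)
    (hVnt : Nontrivial V) {t : H} (ht : t ∈ P) (ht1 : t ≠ 1) (htp : t ^ p = 1) :
    ∃ v, ∀ h : H, ρ (h * t * h⁻¹) v ≠ v := by
  classical
  have hp0 := hp.out.pos
  -- the subgroup of central elements of order `p`
  let Z : Subgroup H :=
    { carrier := {x | x ∈ P ∧ (∀ y ∈ P, y * x = x * y) ∧ x ^ p = 1}
      one_mem' := ⟨one_mem _, fun y _ => by simp, one_pow p⟩
      mul_mem' := fun {a b} ha hb => ⟨mul_mem ha.1 hb.1,
        fun y hy => by rw [← mul_assoc, ha.2.1 y hy, mul_assoc, hb.2.1 y hy, mul_assoc],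
        by rw [(show Commute a b from (hb.2.1 a ha.1)).mul_pow, ha.2.2, hb.2.2, one_mul]⟩
      inv_mem' := fun {a} ha => ⟨inv_mem ha.1,
        fun y hy => (show Commute y a from ha.2.1 y hy).inv_right.eq,
        by rw [inv_pow, ha.2.2, inv_one]⟩ }
  have hZn : Z.Normal := ⟨fun x hx g => ⟨hPn.conj_mem x hx.1 g, fun y hy => by
    have := hx.2.1 (g⁻¹ * y * g) (by simpa using hPn.conj_mem y hy g⁻¹)
    calc y * (g * x * g⁻¹) = g * (g⁻¹ * y * g * x) * g⁻¹ := by group
      _ = g * x * g⁻¹ * y := by rw [this]; group,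
    by rw [conj_pow, hx.2.2, mul_one, mul_inv_cancel]⟩⟩
  have hZP : Z ≤ P := fun x hx => hx.1
  have hZcomm : ∀ c ∈ Z, ∀ a ∈ P, c * a = a * c := fun c hc a ha => (hc.2.1 a ha).symm
  have hZle : Nat.card Z ≤ p := hcyc Z hZn hZP (fun a ha b hb => hZcomm a ha b hb.1) fun a ha => ha.2.2
  -- a central element of order `p`
  obtain ⟨z, hz, hz1⟩ : ∃ z ∈ Z, z ≠ 1 := by
    have hnt : Nontrivial P := ⟨⟨⟨t, ht⟩, 1, fun h => ht1 (congrArg Subtype.val h)⟩⟩
    have := hP.center_nontrivial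
    obtain ⟨k, hk⟩ := (hP.to_subgroup (center P)).exists_card_eq
    have hk0 : k ≠ 0 := fun h => by
      rw [h, pow_zero] at hk
      exact (Finite.one_lt_card (α := center P)).ne' hk
    obtain ⟨c, hc⟩ := exists_prime_orderOf_dvd_card' (G := center P) p
      (hk ▸ dvd_pow_self p hk0)
    refine ⟨((c : P) : H), ⟨(c : P).2, fun y hy =>
      congrArg Subtype.val (mem_center_iff.mp c.2 ⟨y, hy⟩), ?_⟩, fun h => ?_⟩
    · have h1 : c ^ p = 1 := hc ▸ pow_orderOf_eq_one c
      have h2 := congrArg (fun a : center P => ((a : P) : H)) h1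
      simpa using h2
    · have h3 : c = 1 := Subtype.ext (Subtype.ext h)
      rw [h3, orderOf_one] at hc
      exact hp.out.one_lt.ne hc
  have hzp : z ^ p = 1 := hz.2.2
  have hgenZ : ∀ c ∈ Z, c ≠ 1 → zpowers c = Z := fun c hc hc1 =>
    eq_of_le_of_card_ge (zpowers_le.mpr hc)
      (hZle.trans (by rw [Nat.card_zpowers, orderOf_eq_prime hc.2.2 hc1]))
  have hcardZ : Nat.card Z = p := by
    rw [← hgenZ z hz hz1, Nat.card_zpowers, orderOf_eq_prime hzp hz1]
  have hfixZ : fixed ρ Z = ⊥ := hfix Z hZn fun h => hz1 (mem_bot.mp (h ▸ hz))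
  have hfpf : ∀ c ∈ Z, c ≠ 1 → ∀ v, ρ c v = v → v = 0 := fun c hc hc1 v hv => by
    rw [← AddSubgroup.mem_bot, ← hfixZ, ← hgenZ c hc hc1]
    exact (mem_fixed_zpowers ρ).mpr hv
  -- the case of a central element
  by_cases htZ : t ∈ Z
  · obtain ⟨v, hv⟩ := exists_ne (0 : V)
    exact ⟨v, fun h he => hv (hfpf _ (hZn.conj_mem t htZ h)
      (fun h1 => ht1 (conj_eq_one_iff.mp h1)) v he)⟩
  -- the subgroup of elements of order `p` with central commutators
  let Q : Subgroup H :=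
    { carrier := {x | x ∈ P ∧ (∀ y ∈ P, cm y x ∈ Z) ∧ x ^ p = 1}
      one_mem' := ⟨one_mem _, fun y _ => by simp [cm], one_pow p⟩
      mul_mem' := fun {a b} ha hb => ⟨mul_mem ha.1 hb.1, fun y hy => by
          have : cm y (a * b) = cm y a * (a * cm y b * a⁻¹) := by simp only [cm]; group
          rw [this, ← hZcomm _ (hb.2.1 y hy) a ha.1, mul_inv_cancel_right]
          exact mul_mem (ha.2.1 y hy) (hb.2.1 y hy), by
          have hc := ha.2.1 b hb.1
          rw [PGroupNormalSq.pow_mul_central (c := cm b a) (by rw [cm]; group)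
            (hZcomm _ hc a ha.1) (hZcomm _ hc b hb.1), ha.2.2, hb.2.2, mul_one, mul_one]
          obtain ⟨j, hj⟩ := PGroupNormalSq.prime_dvd_choose_two hp.out hp2
          rw [hj, pow_mul, hc.2.2, one_pow]⟩
      inv_mem' := fun {a} ha => ⟨inv_mem ha.1, fun y hy => by
          have : cm y a⁻¹ = a⁻¹ * (cm y a)⁻¹ * a := by simp only [cm]; group
          rw [this, mul_assoc, hZcomm _ (inv_mem (ha.2.1 y hy)) a ha.1, inv_mul_cancel_left]
          exact inv_mem (ha.2.1 y hy), by rw [inv_pow, ha.2.2, inv_one]⟩ }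
  have hQP : Q ≤ P := fun x hx => hx.1
  have hQn : Q.Normal := ⟨fun x hx g => ⟨hPn.conj_mem x hx.1 g, fun y hy => by
    have h1 := hZn.conj_mem _ (hx.2.1 (g⁻¹ * y * g) (by simpa using hPn.conj_mem y hy g⁻¹)) g
    have : cm y (g * x * g⁻¹) = g * cm (g⁻¹ * y * g) x * g⁻¹ := by simp only [cm]; group
    rwa [this], by rw [conj_pow, hx.2.2, mul_one, mul_inv_cancel]⟩⟩
  have hZQ : Z ≤ Q := fun x hx => ⟨hx.1, fun y hy => by
    rw [cm_eq_one_iff.mpr (hx.2.1 y hy)]; exact one_mem _, hx.2.2⟩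
  -- the centre of `Q` is `Z`
  let C : Subgroup H := Q ⊓ centralizer (Q : Set H)
  have hCZ : C ≤ Z := by
    have hCn : C.Normal := inferInstance
    have hle : Z ≤ C := fun x hx => ⟨hZQ hx, mem_centralizer_iff.mpr fun a ha => hx.2.1 a (hQP ha)⟩
    exact (eq_of_le_of_card_ge hle ((hcyc C hCn (inf_le_left.trans hQP)
      (fun a ha b hb => mem_centralizer_iff.mp hb.2 a ha.1) fun a ha => ha.1.2.2).trans hcardZ.ge)).ge
  -- `R = C_P(Q)` is cyclic
  let R : Subgroup H := P ⊓ centralizer (Q : Set H)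
  have hR : IsCyclic R := by
    by_contra hR
    have hS : ¬ IsCyclic (R.subgroupOf P) := fun h => hR ((subgroupOfEquivOfLe inf_le_left).isCyclic.mp h)
    obtain ⟨z', w, hz'c, hz'1, hz'p, hwS, hwp, -, hwz, hnorm⟩ :=
      PGroupNormalSq.exists_normal_sq hp2 hP (R.subgroupOf P) hS
    have hz'Z : (z' : H) ∈ Z := ⟨z'.2, fun y hy =>
      congrArg Subtype.val (mem_center_iff.mp hz'c ⟨y, hy⟩), by simpa using congrArg Subtype.val hz'p⟩
    have hzn : (zpowers z').Normal := ⟨fun u hu h => by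
      obtain ⟨i, rfl⟩ := mem_zpowers_iff.mp hu
      rw [mem_center_iff.mp (zpow_mem hz'c i) h, mul_inv_cancel_right]
      exact zpow_mem (mem_zpowers z') i⟩
    have hwQ : (w : H) ∈ Q := ⟨w.2, fun y hy => by
      have h1 := NormalElem.commutator_mem_of_index_le hP (K := zpowers z')
        (A := Subgroup.closure {z', w}) (le_of_eq (by
          rw [PGroupNormalSq.card_closure_pair hz'c hz'p hwp hz'1 hwz, Nat.card_zpowers,
            orderOf_eq_prime hz'p hz'1, pow_two]))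
        (zpowers_le.mpr (subset_closure (Set.mem_insert _ _))) ⟨y, hy⟩
        (subset_closure (Set.mem_insert_of_mem _ rfl))
      obtain ⟨i, hi⟩ := mem_zpowers_iff.mp h1
      have h2 := congrArg Subtype.val hi
      simp only [SubgroupClass.coe_zpow, Subgroup.coe_mul, Subgroup.coe_inv] at h2
      show y * w * y⁻¹ * (w : H)⁻¹ ∈ Z
      exact h2 ▸ zpow_mem hz'Z i, by simpa using congrArg Subtype.val hwp⟩
    have hwZ := hCZ ⟨hwQ, (mem_subgroupOf.mp hwS).2⟩
    rw [← hgenZ _ hz'Z fun h => hz'1 (Subtype.ext h)] at hwZ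
    obtain ⟨i, hi⟩ := mem_zpowers_iff.mp hwZ
    exact hwz ⟨i, Subtype.ext (by simpa using hi)⟩
  -- every element of order `p` of `P` is in `Q`
  have hZQc : ∀ c ∈ Z, ∀ a ∈ Q, c * a = a * c := fun c hc a ha => hZcomm c hc a (hQP ha)
  haveI hZnQ : (Z.subgroupOf Q).Normal := hZn.subgroupOf Q
  let ψ : P → ((Q ⧸ Z.subgroupOf Q) →* Z) := fun y =>
    pairHom hZQc Z y (fun x hx => hx.2.1 y y.2)
      (fun x hx => cm_eq_one_iff.mpr (hx.2.1 y y.2))
  have hψsurj : ∀ y : P, ∃ q : Q, ψ ⟨q, hQP q.2⟩ = ψ y := by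
    let Φ : (Q ⧸ Z.subgroupOf Q) → ((Q ⧸ Z.subgroupOf Q) →* Z) := fun c =>
      ψ ⟨c.out, hQP c.out.2⟩
    have : Finite ((Q ⧸ Z.subgroupOf Q) →* Z) :=
      Finite.of_injective _ DFunLike.coe_injective
    have hinj : Function.Injective Φ := by
      intro c c' h
      have hq : (c'.out : H)⁻¹ * c.out ∈ Z := hCZ (Subgroup.mem_inf.mpr ⟨mul_mem (inv_mem c'.out.2) c.out.2,
        mem_centralizer_iff.mpr fun x hx => (comm_of_pairHom_eq hZQc Z h x hx).symm⟩)
      rw [← QuotientGroup.out_eq' c, ← QuotientGroup.out_eq' c']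
      exact (QuotientGroup.eq.mpr (mem_subgroupOf.mpr (by simpa using hq))).symm
    have hle : Nat.card ((Q ⧸ Z.subgroupOf Q) →* Z) ≤ Nat.card (Q ⧸ Z.subgroupOf Q) :=
      card_monoidHom_le hcardZ.le _ ((hP.to_le hQP).to_quotient _)
    have hsurj := (hinj.bijective_of_nat_card_le hle).2
    intro y
    obtain ⟨c, hc⟩ := hsurj (ψ y)
    exact ⟨c.out, hc⟩
  have hdecomp : ∀ y ∈ P, ∃ q ∈ Q, q⁻¹ * y ∈ R := by
    intro y hy
    obtain ⟨q, hq⟩ := hψsurj ⟨y, hy⟩
    refine ⟨q, q.2, Subgroup.mem_inf.mpr ⟨mul_mem (inv_mem (hQP q.2)) hy,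
      mem_centralizer_iff.mpr fun x hx => ?_⟩⟩
    exact (comm_of_pairHom_eq hZQc Z hq.symm x hx).symm
  have hRcent : ∀ r ∈ R, ∀ y ∈ P, y * r = r * y := by
    intro r hr y hy
    obtain ⟨q, hq, hqy⟩ := hdecomp y hy
    have h1 : q * r = r * q := mem_centralizer_iff.mp hr.2 q hq
    have h2 : q⁻¹ * y * r = r * (q⁻¹ * y) :=
      have := hR.isMulCommutative
      congrArg Subtype.val (this.is_comm.comm (⟨_, hqy⟩ : R) ⟨r, hr⟩)
    calc y * r = q * (q⁻¹ * y * r) := by group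
      _ = (q * r) * (q⁻¹ * y) := by rw [h2]; group
      _ = r * y := by rw [h1]; group
  have hordQ : ∀ x ∈ P, x ^ p = 1 → x ∈ Q := by
    intro x hx hxp
    obtain ⟨q, hq, hqx⟩ := hdecomp x hx
    have hc : Commute q (q⁻¹ * x) := hRcent _ hqx q (hQP hq)
    have hrp : (q⁻¹ * x) ^ p = 1 := by
      have := hc.mul_pow p
      rwa [mul_inv_cancel_left, hxp, hq.2.2, one_mul, eq_comm] at this
    have h2 := mul_mem hq (hZQ (⟨hqx.1, fun y hy => hRcent _ hqx y hy, hrp⟩ : q⁻¹ * x ∈ Z))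
    rwa [mul_inv_cancel_left] at h2
  -- a maximal abelian subgroup of `Q`
  obtain ⟨A, hA⟩ := (Set.toFinite {A : Subgroup H | A ≤ Q ∧ Z ≤ A ∧
    ∀ a ∈ A, ∀ b ∈ A, a * b = b * a}).exists_maximal
    ⟨Z, hZQ, le_rfl, fun a ha b hb => hZQc a ha b (hZQ hb)⟩
  obtain ⟨hAQ, hZA, hAcomm⟩ := hA.1
  have hself : ∀ x ∈ Q, (∀ a ∈ A, x * a = a * x) → x ∈ A := by
    intro x hx hxc
    have hB : A ⊔ zpowers x ∈ {A : Subgroup H | A ≤ Q ∧ Z ≤ A ∧
        ∀ a ∈ A, ∀ b ∈ A, a * b = b * a} := by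
      refine ⟨sup_le hAQ (zpowers_le.mpr hx), hZA.trans le_sup_left, ?_⟩
      have h1 : A ⊔ zpowers x = Subgroup.closure ((A : Set H) ∪ {x}) := by
        rw [Subgroup.closure_union, Subgroup.closure_eq, ← zpowers_eq_closure]
      rw [h1]
      have hk : ∀ a ∈ (A : Set H) ∪ {x}, ∀ b ∈ (A : Set H) ∪ {x}, a * b = b * a := by
        rintro a (ha | rfl) b (hb | rfl)
        · exact hAcomm a ha b hb
        · exact (hxc a ha).symm
        · exact hxc b hb
        · rfl
      have := isMulCommutative_closure hk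
      intro a ha b hb
      exact congrArg Subtype.val (this.is_comm.comm (⟨a, ha⟩ : Subgroup.closure _) ⟨b, hb⟩)
    exact hA.2 hB le_sup_left (mem_sup_right (mem_zpowers x))
  have hcjA : ∀ q ∈ Q, cj q A = A := by
    intro q hq
    have key : ∀ q ∈ Q, ∀ a ∈ A, q * a * q⁻¹ ∈ A := fun q hq a ha => by
      rw [conj_eq_cm_mul]; exact mul_mem (hZA ((hAQ ha).2.1 q (hQP hq))) ha
    refine le_antisymm (fun y hy => ?_) fun y hy => ?_
    · have := key q hq _ (mem_cj.mp hy)
      simpa [mul_assoc] using this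
    · rw [mem_cj]; simpa using key q⁻¹ (inv_mem hq) y hy
  haveI hAnQ : (A.subgroupOf Q).Normal := ⟨fun x hx g => mem_subgroupOf.mpr (by
    have h := mem_subgroupOf.mp hx
    simp only [Subgroup.coe_mul, Subgroup.coe_inv]
    rw [conj_eq_cm_mul]; exact mul_mem (hZA ((hAQ h).2.1 g (hQP g.2))) h)⟩
  set M := Nat.card (Q ⧸ A.subgroupOf Q) with hM
  have hQp : IsPGroup p Q := hP.to_le hQP
  -- `|A| ≤ p M`
  have hAle : Nat.card A ≤ p * M := by
    let Φ : (A ⧸ Z.subgroupOf A) → ((Q ⧸ A.subgroupOf Q) →* Z) := fun c =>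
      pairHom hZQc A (c.out : H) (fun x hx => hx.2.1 _ (hQP (hAQ c.out.2)))
        (fun x hx => cm_eq_one_iff.mpr (hAcomm _ c.out.2 x hx))
    have : Finite ((Q ⧸ A.subgroupOf Q) →* Z) :=
      Finite.of_injective _ DFunLike.coe_injective
    have hinj : Function.Injective Φ := by
      intro c c' h
      have hq : (c'.out : H)⁻¹ * c.out ∈ Z := hCZ (Subgroup.mem_inf.mpr
        ⟨mul_mem (inv_mem (hAQ c'.out.2)) (hAQ c.out.2),
          mem_centralizer_iff.mpr fun x hx => (comm_of_pairHom_eq hZQc A h x hx).symm⟩)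
      rw [← QuotientGroup.out_eq' c, ← QuotientGroup.out_eq' c']
      exact (QuotientGroup.eq.mpr (mem_subgroupOf.mpr (by simpa using hq))).symm
    have h1 := (Nat.card_le_card_of_injective Φ hinj).trans
      (card_monoidHom_le hcardZ.le _ (hQp.to_quotient _))
    have h2 := (Z.subgroupOf A).card_mul_index
    rw [Nat.card_congr (subgroupOfEquivOfLe hZA).toEquiv, hcardZ] at h2
    rw [← h2]
    exact Nat.mul_le_mul_left _ h1
  have hQcard : Nat.card Q ≤ p * M ^ 2 := by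
    have h2 := (A.subgroupOf Q).card_mul_index
    rw [Nat.card_congr (subgroupOfEquivOfLe hAQ).toEquiv] at h2
    rw [← h2, pow_two, ← mul_assoc]
    exact Nat.mul_le_mul_right _ hAle
  obtain ⟨n, hn⟩ : ∃ n, M = p ^ n := (hQp.to_quotient _).exists_card_eq
  have hn1 : 1 ≤ n := by
    by_contra hn0
    have hn0' : n = 0 := by omega
    rw [hn0', pow_zero, hM] at hn
    have h1 : A.subgroupOf Q = ⊤ := Subgroup.index_eq_one.mp hn
    have hQA : Q ≤ A := subgroupOf_eq_top.mp h1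
    exact htZ (hCZ ⟨hordQ t ht htp, mem_centralizer_iff.mpr fun x hx =>
      hAcomm x (hQA hx) t (hQA (hordQ t ht htp))⟩)
  -- a lower bound for `|V|`
  obtain ⟨K, hK, hKfix⟩ := exists_isMaxIn ρ hV A hAcomm (fun a ha => (hAQ ha).2.2)
    (eq_bot_iff.mpr (hfixZ ▸ fixed_anti ρ hZA))
  have hzK : z ∉ K := fun h => hKfix (eq_bot_iff.mpr fun v hv =>
    AddSubgroup.mem_bot.mpr (hfpf z hz hz1 v (hv z h)))
  have hKnorm : ∀ r ∈ Q, cj r K = K → r ∈ A := by
    intro r hr he
    have hKc : ∀ k ∈ K, r * k = k * r := by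
      intro k hk
      have hkQ := hAQ (hK.1.le hk)
      have h1 : cm r k ∈ K :=
        mul_mem (by rw [← he]; exact conj_mem_cj.mpr hk) (inv_mem hk)
      refine cm_eq_one_iff.mp (by_contra fun hne => hzK ?_)
      exact zpowers_le.mpr h1 (by rw [hgenZ _ (hkQ.2.1 r (hQP hr)) hne]; exact hz)
    have hsup : K ⊔ Z = A := hK.2 _ (sup_le hK.1.le hZA)
      (lt_of_le_of_ne le_sup_left fun h => hzK (h ▸ mem_sup_right hz))
    refine hself r hr fun a ha => ?_
    have hle : K ⊔ Z ≤ centralizer {r} :=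
      sup_le (fun k hk => mem_centralizer_singleton_iff.mpr (hKc k hk).symm)
        fun c hc => mem_centralizer_singleton_iff.mpr (hZQc c hc r hr)
    exact (mem_centralizer_singleton_iff.mp (hle (hsup ▸ ha))).symm
  have hwK : p + 1 ≤ Nat.card (fixed ρ K) := by
    obtain ⟨w, hw, hw0⟩ := (AddSubgroup.bot_or_exists_ne_zero _).resolve_left hKfix
    let f : Option (zpowers z) → fixed ρ K := fun o => o.elim 0 fun c =>
      ⟨ρ c w, fun k hk => by
        rw [← act_mul, ← hZQc c (zpowers_le.mpr hz c.2) k (hAQ (hK.1.le hk)), act_mul,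
          hw k hk]⟩
    have hf : Function.Injective f := by
      rintro (_ | a) (_ | b) h <;>
        simp only [f, Option.elim_none, Option.elim_some, Subtype.ext_iff,
          ZeroMemClass.coe_zero] at h ⊢
      · exact absurd (act_injective ρ (b : H) (h.symm.trans (map_zero _).symm)) hw0
      · exact absurd (act_injective ρ (a : H) (h.trans (map_zero _).symm)) hw0
      · congr 1
        refine Subtype.ext (by_contra fun hne => hw0 (hfpf ((b : H)⁻¹ * a)
          (zpowers_le.mpr hz (mul_mem (inv_mem b.2) a.2))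
          (fun h1 => hne (inv_mul_eq_one.mp h1).symm) w ?_))
        rw [act_mul, h, act_inv_act]
    have := Nat.card_le_card_of_injective f hf
    rwa [Finite.card_option, Nat.card_zpowers, orderOf_eq_prime hzp hz1] at this
  have hVlow : (p + 1) ^ M ≤ Nat.card V := by
    refine pow_card_le_card ρ hV (fun c : Q ⧸ A.subgroupOf Q => cj (c.out : H) K)
      (fun c => ?_) (fun i j a ha b hb => ?_) (fun i j hij v hi hj => ?_) fun i => ?_
    · exact hP.to_le ((cj_le_cj hK.1.le).trans (by rw [hcjA _ c.out.2]; exact hAQ.trans hQP))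
    · exact hAcomm a (hcjA _ i.out.2 ▸ cj_le_cj hK.1.le ha) b
        (hcjA _ j.out.2 ▸ cj_le_cj hK.1.le hb)
    · have hne : cj (i.out : H) K ≠ cj (j.out : H) K := fun he => hij (by
        have hmem := hKnorm ((i.out : H)⁻¹ * j.out) (mul_mem (inv_mem i.out.2) j.out.2)
          (by rw [cj_mul, ← he, ← cj_mul, inv_mul_cancel, cj_one])
        rw [← QuotientGroup.out_eq' i, ← QuotientGroup.out_eq' j]
        exact QuotientGroup.eq.mpr (mem_subgroupOf.mpr (by simpa using hmem)))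
      have h1 := mem_fixed_sup ρ hi hj
      rw [(hK.cj (hcjA _ i.out.2)).sup_eq (hK.cj (hcjA _ j.out.2)) hne] at h1
      exact AddSubgroup.mem_bot.mp (hfixZ ▸ fixed_anti ρ hZA h1)
    · rw [card_fixed_cj]; exact hwK
  -- fixed subgroups of noncentral elements are small
  have hsmall : ∀ x ∈ Q, x ∉ Z → Nat.card (fixed ρ (zpowers x)) ^ p ≤ Nat.card V := by
    intro x hx hxZ
    obtain ⟨y, hy, hyx⟩ : ∃ y ∈ Q, y * x ≠ x * y := by
      by_contra h
      push Not at h
      exact hxZ (hCZ ⟨hx, mem_centralizer_iff.mpr h⟩)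
    set c := cm y x with hc
    have hcZ : c ∈ Z := hx.2.1 y (hQP hy)
    have hc1 : c ≠ 1 := fun h => hyx (cm_eq_one_iff.mp h)
    have hconj : ∀ i : ℕ, y ^ i * x * (y ^ i)⁻¹ = c ^ i * x := by
      intro i
      induction i with
      | zero => simp
      | succ i ih =>
        calc y ^ (i + 1) * x * (y ^ (i + 1))⁻¹ = y * (y ^ i * x * (y ^ i)⁻¹) * y⁻¹ := by
              rw [pow_succ']; group
          _ = c ^ i * (y * x * y⁻¹) := by
              rw [ih, ← mul_assoc, (hZQc _ (pow_mem hcZ i) y hy).symm]; group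
          _ = c ^ (i + 1) * x := by rw [conj_eq_cm_mul, ← hc, ← mul_assoc, pow_succ]
    have hcx : Commute c x := hZQc c hcZ x hx
    have h := pow_card_le_card ρ hV (fun i : Fin p => zpowers (c ^ (i : ℕ) * x))
      (fun i => hQp.to_le (zpowers_le.mpr (mul_mem (hZQ (pow_mem hcZ _)) hx)))
      (fun i j a ha b hb => by
        obtain ⟨m, rfl⟩ := mem_zpowers_iff.mp ha
        obtain ⟨l, rfl⟩ := mem_zpowers_iff.mp hb
        exact Commute.zpow_zpow (Commute.mul_left ((Commute.refl c).pow_pow _ _ |>.mul_right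
          (hcx.pow_left _)) ((hcx.symm.pow_right _).mul_right (Commute.refl x))) m l)
      (fun i j hij v hi hj => ?_) (c := Nat.card (fixed ρ (zpowers x))) (fun i => ?_)
    · rwa [Nat.card_fin] at h
    · have hi' := (mem_fixed_zpowers ρ).mp hi
      have hj' := (mem_fixed_zpowers ρ).mp hj
      refine hfpf ((c ^ (j : ℕ))⁻¹ * c ^ (i : ℕ)) (mul_mem (inv_mem (pow_mem hcZ _))
        (pow_mem hcZ _)) (fun h1 => hij (Fin.ext ?_)) v ?_
      · have h2 := inv_mul_eq_one.mp h1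
        exact (pow_injOn_Iio_orderOf (x := c)
          (by rw [orderOf_eq_prime hcZ.2.2 hc1]; exact i.2)
          (by rw [orderOf_eq_prime hcZ.2.2 hc1]; exact j.2) h2.symm)
      · rw [show (c ^ (j : ℕ))⁻¹ * c ^ (i : ℕ) = x * (c ^ (j : ℕ) * x)⁻¹ *
            ((c ^ (i : ℕ) * x) * x⁻¹) by group]
        rw [show x * (c ^ (j : ℕ) * x)⁻¹ * ((c ^ (i : ℕ) * x) * x⁻¹) =
          (c ^ (j : ℕ) * x)⁻¹ * (c ^ (i : ℕ) * x) by
            have e : ∀ k : ℕ, x * c ^ k = c ^ k * x := fun k => (hcx.symm.pow_right k).eq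
            calc x * (c ^ (j : ℕ) * x)⁻¹ * ((c ^ (i : ℕ) * x) * x⁻¹)
                = (c ^ (j : ℕ))⁻¹ * c ^ (i : ℕ) := by group
              _ = x⁻¹ * ((c ^ (j : ℕ))⁻¹ * c ^ (i : ℕ) * x) := by
                  rw [(show Commute ((c ^ (j : ℕ))⁻¹ * c ^ (i : ℕ)) x from
                    (hcx.pow_left _).inv_left.mul_left (hcx.pow_left _)).eq, inv_mul_cancel_left]
              _ = (c ^ (j : ℕ) * x)⁻¹ * (c ^ (i : ℕ) * x) := by group]
        rw [act_mul, hi', act_inv_fixed ρ hj']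
    · rw [← hconj, ← card_fixed_cj ρ (y ^ (i : ℕ)) (zpowers x)]
      refine le_of_eq ?_
      suffices hcj : cj (y ^ (i : ℕ)) (zpowers x) = zpowers (y ^ (i : ℕ) * x * (y ^ (i : ℕ))⁻¹) by
        rw [hcj]
      refine le_antisymm (fun u hu => ?_) (zpowers_le.mpr ?_)
      · rw [mem_cj] at hu
        obtain ⟨m, hm⟩ := mem_zpowers_iff.mp hu
        exact mem_zpowers_iff.mpr ⟨m, by rw [conj_zpow, hm]; group⟩
      · rw [conj_mem_cj]; exact mem_zpowers x
  -- the union bound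
  by_contra hcon
  push Not at hcon
  let 𝓛 := {L : Subgroup H // ∃ x ∈ Q, x ∉ Z ∧ zpowers x = L}
  haveI := Fintype.ofFinite 𝓛
  have hcover : ∀ v, ∃ L : 𝓛, v ∈ fixed ρ L.1 := by
    intro v
    obtain ⟨g, hg⟩ := hcon v
    refine ⟨⟨zpowers (g * t * g⁻¹), g * t * g⁻¹, hordQ _ (hPn.conj_mem t ht g) ?_,
      fun h => htZ ?_, rfl⟩, (mem_fixed_zpowers ρ).mpr hg⟩
    · rw [conj_pow, htp, mul_one, mul_inv_cancel]
    · have := hZn.conj_mem _ h g⁻¹
      simpa [mul_assoc] using this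
  have hne : Nonempty 𝓛 := ⟨(hcover 0).choose⟩
  obtain ⟨L₀, hL₀⟩ := Finite.exists_max fun L : 𝓛 => Nat.card (fixed ρ L.1)
  set c₀ := Nat.card (fixed ρ L₀.1) with hc₀
  have hc : c₀ ^ p ≤ Nat.card V := by
    obtain ⟨x, hx, hxZ, he⟩ := L₀.2
    rw [hc₀, ← he]; exact hsmall x hx hxZ
  have hunion : Nat.card V ≤ Nat.card 𝓛 * c₀ := by
    choose f hf using hcover
    calc Nat.card V ≤ Nat.card (Σ L : 𝓛, fixed ρ L.1) :=
          Nat.card_le_card_of_injective (fun v => ⟨f v, v, hf v⟩) fun u v h => by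
            simpa using congrArg (fun s : Σ L : 𝓛, fixed ρ L.1 => (s.2 : V)) h
      _ = ∑ L : 𝓛, Nat.card (fixed ρ L.1) := Nat.card_sigma
      _ ≤ ∑ _L : 𝓛, c₀ := Finset.sum_le_sum fun L _ => hL₀ L
      _ = Nat.card 𝓛 * c₀ := by simp
  have hcount : Nat.card 𝓛 * (p - 1) ≤ Nat.card Q := by
    choose g hgQ hgZ hgL using fun L : 𝓛 => L.2
    have hord : ∀ L, orderOf (g L) = p := fun L =>
      orderOf_eq_prime (hgQ L).2.2 fun h => hgZ L (h ▸ one_mem _)
    have hgen : ∀ (L : 𝓛) (k : Fin (p - 1)), zpowers (g L ^ ((k : ℕ) + 1)) = L.1 := by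
      intro L k
      refine eq_of_le_of_card_ge (zpowers_le.mpr (pow_mem (hgL L ▸ mem_zpowers _) _)) ?_
      rw [← hgL L, Nat.card_zpowers, Nat.card_zpowers, hord L, orderOf_eq_prime
        (by rw [← pow_mul, mul_comm, pow_mul, (hgQ L).2.2, one_pow]) fun h => ?_]
      have := Nat.le_of_dvd (Nat.succ_pos _) (hord L ▸ orderOf_dvd_of_pow_eq_one h)
      omega
    have hinj : Function.Injective (fun s : 𝓛 × Fin (p - 1) =>
        (⟨g s.1 ^ ((s.2 : ℕ) + 1), pow_mem (hgQ s.1) _⟩ : Q)) := by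
      rintro ⟨L, k⟩ ⟨L', k'⟩ h
      have h' := congrArg Subtype.val h
      simp only at h'
      have hLL : L = L' := Subtype.ext (by rw [← hgen L k, h', hgen L' k'])
      subst hLL
      have := pow_injOn_Iio_orderOf (x := g L) (by rw [hord L]; exact (by omega : (k : ℕ) + 1 < p))
        (by rw [hord L]; exact (by omega : (k' : ℕ) + 1 < p)) h'
      exact Prod.ext rfl (Fin.ext (by simpa using this))
    simpa [Nat.card_prod] using Nat.card_le_card_of_injective _ hinj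
  -- the contradiction
  have hVpos : 0 < Nat.card V := Nat.card_pos
  have h1 : Nat.card V ^ (p - 1) ≤ Nat.card 𝓛 ^ p := by
    refine Nat.le_of_mul_le_mul_right (c := Nat.card V) ?_ hVpos
    calc Nat.card V ^ (p - 1) * Nat.card V = Nat.card V ^ p := by
          rw [← pow_succ, Nat.sub_add_cancel hp0]
      _ ≤ (Nat.card 𝓛 * c₀) ^ p := Nat.pow_le_pow_left hunion p
      _ ≤ Nat.card 𝓛 ^ p * Nat.card V := by rw [mul_pow]; exact Nat.mul_le_mul_left _ hc
  have h2 := count_lt hp.out hp2 hn1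
  rw [← hn, pow_mul] at h2
  refine absurd h2 (not_lt.mpr ?_)
  calc ((p + 1) ^ M) ^ (p - 1) * (p - 1) ^ p ≤ Nat.card V ^ (p - 1) * (p - 1) ^ p :=
        Nat.mul_le_mul_right _ (Nat.pow_le_pow_left hVlow _)
    _ ≤ (Nat.card 𝓛 * (p - 1)) ^ p := by rw [mul_pow]; exact Nat.mul_le_mul_right _ h1
    _ ≤ (p * M ^ 2) ^ p := Nat.pow_le_pow_left (hcount.trans hQcard) p

end Cfsg.Agent.Lib.ClassFixed58
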