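import Mathlib
import Cfsg.Agent.Lib.PGroup.Frattini

/-!
For odd `p`, a finite `p`-group acting on a finite set has a subset whose setwise stabilizer is
the kernel of the action.
-/

set_option autoImplicit false

namespace Cfsg.Agent.Lib.ClassFixed58

open MulAction
open scoped Pointwise

theorem exists_set_orbit_aux {p : ℕ} [hp : Fact p.Prime] (hp2 : p ≠ 2) : ∀ (n : ℕ)
    (P : Type*) [Group P] [Finite P], Nat.card P ≤ n → IsPGroup p P →
    ∀ {Ω : Type*} [MulAction P Ω] (x : Ω), ∃ S : Set Ω, S ⊆ orbit P x ∧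
      ∀ g : P, g • S = S → ∀ ω ∈ orbit P x, g • ω = ω := by
  intro n
  induction n with
  | zero => intro P _ _ h; exact absurd h (Nat.not_le.mpr Nat.card_pos)
  | succ n ih =>
    intro P _ _ hn hP Ω _ x
    by_cases hst : stabilizer P x = ⊤
    · refine ⟨∅, Set.empty_subset _, fun g _ ω hω => ?_⟩
      obtain ⟨k, rfl⟩ := hω
      have h1 : ∀ a : P, a • x = x := fun a => mem_stabilizer_iff.mp (hst ▸ Subgroup.mem_top a)
      simp only [h1]
    obtain ⟨M, hM, hle⟩ := (eq_top_or_exists_le_coatom (stabilizer P x)).resolve_left hst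
    have hMn : M.Normal := PFrattini.normal_of_isCoatom hP hM
    have hMlt : Nat.card M ≤ n := by
      have : Nat.card M < Nat.card P :=
        lt_of_le_of_ne M.card_le_card_group fun h => hM.1 (M.card_eq_iff_eq_top.mp h)
      omega
    obtain ⟨S₀, hS₀, hS₀prop⟩ := ih M hMlt (hP.to_subgroup M) x
    set Δ : Set Ω := orbit M x with hΔ
    have hΔfin : Δ.Finite := Set.finite_range _
    have hodd : Odd Δ.ncard := by
      have : Finite (orbit M x) := (Set.finite_range _).to_subtype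
      obtain ⟨k, hk⟩ := (hP.to_subgroup M).card_orbit x
      rw [← Nat.card_coe_set_eq, hΔ, hk]
      exact (hp.out.odd_of_ne_two hp2).pow
    -- translates of `Δ` meet only for the same coset
    have hblock : ∀ g h : P, ∀ a ∈ Δ, ∀ b ∈ Δ, g • a = h • b → (g : P ⧸ M) = (h : P ⧸ M) := by
      rintro g h _ ⟨m₁, rfl⟩ _ ⟨m₂, rfl⟩ heq
      rw [QuotientGroup.eq]
      have h1 : (h * (m₂ : P))⁻¹ * (g * m₁) ∈ stabilizer P x := by
        rw [mem_stabilizer_iff, mul_smul, inv_smul_eq_iff, mul_smul, mul_smul]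
        exact heq
      have h2 : ((h * (m₂ : P))⁻¹ * (g * m₁))⁻¹ ∈ M := inv_mem (hle h1)
      have h3 := mul_mem (mul_mem m₁.2 h2) (inv_mem m₂.2)
      rwa [show (m₁ : P) * ((h * (m₂ : P))⁻¹ * (g * m₁))⁻¹ * (m₂ : P)⁻¹ = g⁻¹ * h by group] at h3
    -- `M` preserves every translate of `Δ`
    have hMinv : ∀ m ∈ M, ∀ a ∈ Δ, m • a ∈ Δ := by
      rintro m hm _ ⟨k, rfl⟩
      exact ⟨⟨m, hm⟩ * k, mul_smul m (k : P) x⟩
    let S : Set Ω := {ω | ω ∈ S₀ ∨ ∃ c : P ⧸ M, c ≠ 1 ∧ ∃ a ∈ Δ \ S₀, c.out • a = ω}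
    have hinter : ∀ g : P, ∀ a ∈ Δ, g • a ∈ S →
        ((g : P ⧸ M) = 1 ∧ g • a ∈ S₀) ∨
        ((g : P ⧸ M) ≠ 1 ∧ ∃ b ∈ Δ \ S₀, (g : P ⧸ M).out • b = g • a) := by
      rintro g a ha (h | ⟨c, hc, b, hb, he⟩)
      · left
        refine ⟨?_, h⟩
        have := hblock g 1 a ha (g • a) (hS₀ h) (one_smul _ _).symm
        simpa using this
      · right
        have hcg : (g : P ⧸ M) = c := by
          rw [hblock g c.out a ha b hb.1 he.symm, QuotientGroup.out_eq']
        subst hcg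
        exact ⟨hc, b, hb, he⟩
    refine ⟨S, ?_, fun g hg => ?_⟩
    · rintro ω (h | ⟨c, -, a, ha, rfl⟩)
      · obtain ⟨m, hm⟩ := hS₀ h
        exact ⟨m, hm⟩
      · obtain ⟨m, hm⟩ := ha.1
        exact ⟨c.out * m, by rw [← hm]; exact mul_smul _ _ _⟩
    have hmem : ∀ ω, ω ∈ S → g • ω ∈ S := fun ω hω => hg ▸ Set.smul_mem_smul_set hω
    have hmem' : ∀ ω, g • ω ∈ S → ω ∈ S := fun ω hω =>
      Set.smul_mem_smul_set_iff.mp (hg.symm ▸ hω : g • ω ∈ g • S)
    have hgM : g ∈ M := by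
      by_contra hgM
      have hg1 : (g : P ⧸ M) ≠ 1 := fun h => hgM ((QuotientGroup.eq_one_iff g).mp h)
      have heq : g • S₀ = (g : P ⧸ M).out • (Δ \ S₀) := by
        ext ω
        refine ⟨?_, ?_⟩
        · rintro ⟨a, ha, rfl⟩
          rcases hinter g a (hS₀ ha) (hmem a (Or.inl ha)) with ⟨h, -⟩ | ⟨-, b, hb, he⟩
          · exact absurd h hg1
          · exact ⟨b, hb, he⟩
        · rintro ⟨b, hb, rfl⟩
          have hS : (g : P ⧸ M).out • b ∈ S := Or.inr ⟨_, hg1, b, hb, rfl⟩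
          obtain ⟨m, hm⟩ := QuotientGroup.mk_out_eq_mul M g
          refine ⟨g⁻¹ • (g : P ⧸ M).out • b, ?_, smul_inv_smul _ _⟩
          have hin : g⁻¹ • (g : P ⧸ M).out • b ∈ S := hmem' _ (by rwa [smul_inv_smul])
          have hΔ' : g⁻¹ • (g : P ⧸ M).out • b ∈ Δ := by
            rw [hm, mul_smul, inv_smul_smul]
            exact hMinv _ m.2 b hb.1
          have h1 := hinter 1 _ hΔ' (by rwa [one_smul])
          simpa using h1
      have hc := congrArg Set.ncard heq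
      rw [Set.ncard_smul_set, Set.ncard_smul_set, Set.ncard_sdiff hS₀ (hΔfin.subset hS₀)]
        at hc
      have := Set.ncard_le_ncard hS₀ hΔfin
      obtain ⟨k, hk⟩ := hodd
      omega
    -- every element of `M` stabilizing `S` fixes `Δ` pointwise
    have hfix0 : ∀ m : P, ∀ hm : m ∈ M, (∀ a ∈ S₀, m • a ∈ S₀) → ∀ a ∈ Δ, m • a = a := by
      intro m hm h a ha
      refine hS₀prop ⟨m, hm⟩ ?_ a ha
      refine Set.eq_of_subset_of_ncard_le ?_ (Set.ncard_smul_set _ _).ge (hΔfin.subset hS₀)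
      rintro _ ⟨b, hb, rfl⟩
      exact h b hb
    rintro ω ⟨k, rfl⟩
    change g • k • x = k • x
    obtain ⟨c, hc⟩ : ∃ c : P ⧸ M, c = (k : P ⧸ M) := ⟨_, rfl⟩
    obtain ⟨m, hm⟩ := QuotientGroup.mk_out_eq_mul M k
    have hx : (m : P)⁻¹ • x ∈ Δ := hMinv _ (inv_mem m.2) x (mem_orbit_self x)
    have hkx : k • x = c.out • (m : P)⁻¹ • x := by
      rw [hc, hm, mul_smul, smul_inv_smul]
    rw [hkx]
    by_cases hc1 : c = 1
    · have hoM : c.out ∈ M := (QuotientGroup.eq_one_iff _).mp (by rw [QuotientGroup.out_eq', hc1])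
      refine hfix0 g hgM (fun a ha => ?_) _ (hMinv _ hoM _ hx)
      have h1 := hinter g a (hS₀ ha) (hmem a (Or.inl ha))
      rw [(QuotientGroup.eq_one_iff g).mpr hgM] at h1
      simpa using h1
    · set r := c.out with hr
      have hconj : r⁻¹ * g * r ∈ M := by
        simpa using hMn.conj_mem g hgM r⁻¹
      have hdiff : ∀ a ∈ Δ \ S₀, (r⁻¹ * g * r) • a ∈ Δ \ S₀ := by
        intro a ha
        have h2 := hmem _ (Or.inr ⟨c, hc1, a, ha, rfl⟩)
        rw [← hr] at h2
        have he : g • r • a = r • (r⁻¹ * g * r) • a := by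
          simp only [mul_smul, smul_inv_smul]
        rw [he] at h2
        rcases hinter r _ (hMinv _ hconj a ha.1) h2 with ⟨h, -⟩ | ⟨-, b, hb, hbe⟩
        · rw [hr, QuotientGroup.out_eq'] at h
          exact absurd h hc1
        · rw [hr, QuotientGroup.out_eq', ← hr] at hbe
          rwa [← smul_left_cancel_iff r |>.mp hbe]
      have hstab : ∀ a ∈ S₀, (r⁻¹ * g * r) • a ∈ S₀ := by
        intro a ha
        by_contra hn'
        set q := r⁻¹ * g * r with hq
        have himg : q • (Δ \ S₀) = Δ \ S₀ :=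
          Set.eq_of_subset_of_ncard_le (fun ω hω => by
            obtain ⟨b, hb, rfl⟩ := hω; exact hdiff b hb)
            (Set.ncard_smul_set _ _).ge (hΔfin.subset Set.sdiff_subset)
        have h3 : q • a ∈ q • (Δ \ S₀) := by rw [himg]; exact ⟨hMinv _ hconj a (hS₀ ha), hn'⟩
        exact (Set.smul_mem_smul_set_iff.mp h3).2 ha
      have := hfix0 _ hconj hstab _ hx
      calc g • r • (m : P)⁻¹ • x = r • (r⁻¹ * g * r) • (m : P)⁻¹ • x := by
            simp only [mul_smul, smul_inv_smul]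
        _ = r • (m : P)⁻¹ • x := by rw [this]

/-- For odd `p`: a subset whose setwise stabilizer acts trivially. -/
theorem exists_regular_set {p : ℕ} [Fact p.Prime] (hp2 : p ≠ 2) {P : Type*} [Group P] [Finite P]
    (hP : IsPGroup p P) (Ω : Type*) [MulAction P Ω] :
    ∃ S : Set Ω, ∀ g : P, g • S = S → ∀ ω : Ω, g • ω = ω := by
  choose T hT hTprop using fun o : orbitRel.Quotient P Ω =>
    exists_set_orbit_aux hp2 _ P le_rfl hP o.out
  refine ⟨⋃ o, T o, fun g hg ω => ?_⟩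
  let o : orbitRel.Quotient P Ω := Quotient.mk'' ω
  have ho : ∀ o' : orbitRel.Quotient P Ω, ∀ y ∈ orbit P o'.out, Quotient.mk'' y = o' := by
    intro o' y hy
    conv_rhs => rw [← Quotient.out_eq' o']
    exact Quotient.sound' (orbitRel_apply.mpr hy)
  refine hTprop o g (Set.ext fun y => ?_) ω ?_
  · constructor
    · rintro ⟨a, ha, rfl⟩
      have h1 : g • a ∈ ⋃ o, T o := hg ▸ Set.smul_mem_smul_set (Set.mem_iUnion.mpr ⟨o, ha⟩)
      obtain ⟨o', ho'⟩ := Set.mem_iUnion.mp h1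
      have e1 := ho o _ (mem_orbit_of_mem_orbit g (hT o ha))
      have e2 := ho o' _ (hT o' ho')
      rwa [← e1, e2]
    · intro hy
      have h1 : y ∈ g • ⋃ o, T o := hg.symm ▸ Set.mem_iUnion.mpr ⟨o, hy⟩
      obtain ⟨a, ha, rfl⟩ := h1
      obtain ⟨o', ho'⟩ := Set.mem_iUnion.mp ha
      have e1 := ho o _ (hT o hy)
      have e2 := ho o' _ (mem_orbit_of_mem_orbit g (hT o' ho'))
      have hoo : o' = o := e2.symm.trans e1
      exact ⟨a, hoo ▸ ho', rfl⟩
  · exact orbitRel_apply.mp (Quotient.exact' (Quotient.out_eq' o).symm)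

end Cfsg.Agent.Lib.ClassFixed58
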