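import Mathlib
import Cfsg.Agent.Lib.ClassFixed58.RegularSet
import Cfsg.Agent.Lib.ClassFixed58.Extraspecial

/-!
If a finite group acts coprimely on a finite abelian group and an element of a normal `p`-subgroup
(`p` odd) acts nontrivially, then some vector is moved by all conjugates of that element.
-/

set_option autoImplicit false

namespace Cfsg.Agent.Lib.ClassFixed58

open Subgroup
open scoped Pointwise

universe u v

variable {H : Type u} [Group H] {V : Type v} [AddCommGroup V]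

/-- The action on an invariant subgroup. -/
def restrictHom (ρ : H →* AddMonoid.End V) (U : AddSubgroup V)
    (hU : ∀ h, ∀ v ∈ U, ρ h v ∈ U) : H →* AddMonoid.End U where
  toFun h := ((ρ h).comp U.subtype).codRestrict U fun v => hU h v v.2
  map_one' := AddMonoidHom.ext fun v => Subtype.ext (act_one ρ v)
  map_mul' a b := AddMonoidHom.ext fun v => Subtype.ext (act_mul ρ a b v)

theorem coe_restrictHom (ρ : H →* AddMonoid.End V) (U : AddSubgroup V)
    (hU : ∀ h, ∀ v ∈ U, ρ h v ∈ U) (h : H) (v : U) :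
    ((restrictHom ρ U hU h v : U) : V) = ρ h v := rfl

variable [Finite H] [Finite V] {p : ℕ} [hp : Fact p.Prime]

/-- The induction hypothesis. -/
def MovedBelow (p n : ℕ) : Prop :=
  ∀ (H : Type u) [Group H] [Finite H] (V : Type v) [AddCommGroup V] [Finite V],
    Nat.card V ≤ n → ¬ p ∣ Nat.card V → ∀ (ρ : H →* AddMonoid.End V) (P : Subgroup H),
      P.Normal → IsPGroup p P → ∀ t ∈ P, ρ t ≠ 1 → ∃ v, ∀ h : H, ρ (h * t * h⁻¹) v ≠ v

/-- Recursion to a proper invariant subgroup, for a subgroup `St` of `H`. -/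
theorem MovedBelow.apply {n : ℕ} (ih : MovedBelow.{u, v} p n) (hVn : Nat.card V ≤ n + 1)
    (hV : ¬ p ∣ Nat.card V) (ρ : H →* AddMonoid.End V) (St : Subgroup H) (U : AddSubgroup V)
    (hU : ∀ h ∈ St, ∀ v ∈ U, ρ h v ∈ U) (hUne : U ≠ ⊤) (P : Subgroup H) [P.Normal]
    (hP : IsPGroup p P) {t : H} (ht : t ∈ P) (htS : t ∈ St) (hmove : ∃ v ∈ U, ρ t v ≠ v) :
    ∃ v ∈ U, ∀ h ∈ St, ρ (h * t * h⁻¹) v ≠ v := by
  have hlt : Nat.card U ≤ n := by
    have : Nat.card U < Nat.card V :=
      lt_of_le_of_ne (AddSubgroup.card_le_card_addGroup U)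
        fun h => hUne ((AddSubgroup.card_eq_iff_eq_top U).mp h)
    omega
  have hUp : ¬ p ∣ Nat.card U := fun h => hV (h.trans (AddSubgroup.card_addSubgroup_dvd_card U))
  let ρ' := restrictHom (ρ.comp St.subtype) U fun h => hU h h.2
  obtain ⟨v, hv⟩ := ih St U hlt hUp ρ' (P.subgroupOf St) inferInstance
    (hP.comap_subtype) ⟨t, htS⟩ (mem_subgroupOf.mpr ht) (by
      obtain ⟨v, hvU, hv⟩ := hmove
      intro h
      exact hv (congrArg Subtype.val (DFunLike.congr_fun h (⟨v, hvU⟩ : U))))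
  exact ⟨v, v.2, fun h hh he => hv ⟨h, hh⟩ (Subtype.ext he)⟩

variable (ρ : H →* AddMonoid.End V)

/-- The case of a normal noncyclic elementary abelian subgroup. -/
theorem exists_moved_of_noncyclic (hp2 : p ≠ 2) {n : ℕ} (ih : MovedBelow.{u, v} p n)
    (hVn : Nat.card V ≤ n + 1) (hV : ¬ p ∣ Nat.card V) (hVnt : Nontrivial V)
    (hfaith : ∀ h, ρ h = 1 → h = 1)
    (hirr : ∀ U : AddSubgroup V, (∀ h, ∀ v ∈ U, ρ h v ∈ U) → U = ⊥ ∨ U = ⊤)
    (hfix : ∀ B : Subgroup H, B.Normal → B ≠ ⊥ → fixed ρ B = ⊥)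
    (P : Subgroup H) [hPn : P.Normal] (hP : IsPGroup p P) (A : Subgroup H) [hAn : A.Normal]
    (hAP : A ≤ P) (hAcomm : ∀ a ∈ A, ∀ b ∈ A, a * b = b * a) (hAexp : ∀ a ∈ A, a ^ p = 1)
    (hAcard : p < Nat.card A) {t : H} (ht : t ∈ P) (ht1 : t ≠ 1) :
    ∃ v, ∀ h : H, ρ (h * t * h⁻¹) v ≠ v := by
  classical
  have hAne : A ≠ ⊥ := fun h => by
    rw [h, card_bot] at hAcard
    exact absurd hAcard (not_lt.mpr hp.out.one_lt.le)
  have hfixA : fixed ρ A = ⊥ := hfix A hAn hAne
  -- the blocks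
  let Ω := {K : Subgroup H // IsMaxIn K A ∧ fixed ρ K ≠ ⊥}
  haveI : Nonempty Ω := by
    obtain ⟨K, hK, hKf⟩ := exists_isMaxIn ρ hV A hAcomm hAexp hfixA
    exact ⟨⟨K, hK, hKf⟩⟩
  have hstab : ∀ (h : H) (K : Ω), IsMaxIn (cj h K.1) A ∧ fixed ρ (cj h K.1) ≠ ⊥ := by
    intro h K
    refine ⟨K.2.1.cj (cj_of_normal h A), fun he => K.2.2 ((AddSubgroup.eq_bot_iff_forall _).mpr fun v hv => ?_)⟩
    have h1 := act_mem_fixed_cj ρ (x := h) hv
    rw [he, AddSubgroup.mem_bot] at h1
    exact act_injective ρ h (h1.trans (map_zero _).symm)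
  letI : MulAction H Ω :=
    { smul := fun h K => ⟨cj h K.1, hstab h K⟩
      one_smul := fun K => Subtype.ext (cj_one K.1)
      mul_smul := fun a b K => Subtype.ext (cj_mul a b K.1) }
  haveI := Fintype.ofFinite Ω
  have hact : ∀ (h : H) (K : Ω) {w : V}, w ∈ fixed ρ K.1 → ρ h w ∈ fixed ρ (h • K).1 :=
    fun h K w hw => act_mem_fixed_cj ρ hw
  have hblockA : ∀ (i : Ω), i.1 ≤ A := fun i => i.2.1.1.le
  have hbp : ∀ i : Ω, IsPGroup p i.1 := fun i => hP.to_le ((hblockA i).trans hAP)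
  have hcommΩ : ∀ i j : Ω, ∀ a ∈ i.1, ∀ b ∈ j.1, a * b = b * a := fun i j a ha b hb =>
    hAcomm a (hblockA i ha) b (hblockA j hb)
  have hdisj : ∀ i j : Ω, i ≠ j → ∀ v ∈ fixed ρ i.1, v ∈ fixed ρ j.1 → v = 0 := by
    intro i j hij v hi hj
    have h1 := mem_fixed_sup ρ hi hj
    rw [i.2.1.sup_eq j.2.1 (fun h => hij (Subtype.ext h)), hfixA] at h1
    exact AddSubgroup.mem_bot.mp h1
  -- the block component of a sum
  have hcomp : ∀ (s : Finset Ω) (w : Ω → V) (x : H), (∀ K, w K ∈ fixed ρ K.1) →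
      ∀ K : Ω, avg ρ (x • K).1 (ρ x (∑ i ∈ s, w i)) =
        if K ∈ s then Nat.card (x • K).1 • ρ x (w K) else 0 := by
    intro s w x hw K
    rw [map_sum, map_sum]
    split_ifs with h
    · rw [Finset.sum_eq_single_of_mem K h (fun i _ hiK => hdisj (x • i) (x • K)
        (fun he => hiK (MulAction.injective x he)) _
        (avg_mem_of_comm ρ (hcommΩ (x • i) (x • K)) (hact x i (hw i))) (avg_mem ρ _ _)),
        avg_of_mem ρ (hact x K (hw K))]
    · exact Finset.sum_eq_zero fun i hi => hdisj (x • i) (x • K)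
        (fun he => h (MulAction.injective x he ▸ hi)) _
        (avg_mem_of_comm ρ (hcommΩ (x • i) (x • K)) (hact x i (hw i))) (avg_mem ρ _ _)
  by_cases htriv : ∀ K : Ω, t • K = K
  · -- `t` fixes every block
    obtain ⟨i₀, w₀, hw₀, hw₀t⟩ : ∃ i : Ω, ∃ w ∈ fixed ρ i.1, ρ t w ≠ w := by
      by_contra hcon
      push Not at hcon
      let U : AddSubgroup V := ⨆ i : Ω, fixed ρ i.1
      have hUinv : ∀ h, ∀ v ∈ U, ρ h v ∈ U := by
        intro h v hv
        induction hv using AddSubgroup.iSup_induction' with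
        | hp i v hv => exact AddSubgroup.mem_iSup_of_mem (h • i) (hact h i hv)
        | h1 => rw [map_zero]; exact zero_mem _
        | hadd v w _ _ e1 e2 => rw [map_add]; exact add_mem e1 e2
      rcases hirr U hUinv with hU | hU
      · obtain ⟨i⟩ := ‹Nonempty Ω›
        exact i.2.2 (eq_bot_iff.mpr ((le_iSup (fun i : Ω => fixed ρ i.1) i).trans hU.le))
      · refine ht1 (hfaith t (act_eq_one ρ fun v => ?_))
        have hv : v ∈ U := hU ▸ AddSubgroup.mem_top v
        induction hv using AddSubgroup.iSup_induction' with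
        | hp i v hv => exact hcon i v hv
        | h1 => exact map_zero _
        | hadd v w _ _ e1 e2 => rw [map_add, e1, e2]
    have hne : fixed ρ i₀.1 ≠ ⊤ := by
      intro htop
      have hbot : i₀.1 = ⊥ := (Subgroup.eq_bot_iff_forall _).mpr fun k hk =>
        hfaith k (act_eq_one ρ fun v => (htop ▸ AddSubgroup.mem_top v : v ∈ fixed ρ i₀.1) k hk)
      obtain ⟨a, ha, ha1⟩ := (Subgroup.bot_or_exists_ne_one A).resolve_left hAne
      have h1 : zpowers a = A := i₀.2.1.2 _ (zpowers_le.mpr ha) (by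
        rw [hbot]; exact bot_lt_iff_ne_bot.mpr fun h => ha1 (zpowers_eq_bot.mp h))
      rw [← h1, Nat.card_zpowers, orderOf_eq_prime (hAexp a ha) ha1] at hAcard
      exact lt_irrefl _ hAcard
    let St := MulAction.stabilizer H i₀
    obtain ⟨w, hw, hwmove⟩ := MovedBelow.apply ih hVn hV ρ St (fixed ρ i₀.1)
      (fun h hh v hv => by
        have h1 := hact h i₀ hv
        rwa [MulAction.mem_stabilizer_iff.mp hh] at h1)
      hne P hP ht (MulAction.mem_stabilizer_iff.mpr (htriv i₀)) ⟨w₀, hw₀, hw₀t⟩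
    choose r hr using fun K : MulAction.orbit H i₀ => K.2
    let W : Ω → V := fun K => if hK : K ∈ MulAction.orbit H i₀ then ρ (r ⟨K, hK⟩) w else 0
    have hW : ∀ K, W K ∈ fixed ρ K.1 := by
      intro K
      simp only [W]
      split_ifs with hK
      · have h1 := hact (r ⟨K, hK⟩) i₀ hw
        have h2 : r ⟨K, hK⟩ • i₀ = K := hr ⟨K, hK⟩
        rwa [h2] at h1
      · exact zero_mem _
    refine ⟨∑ K, W K, fun h he => ?_⟩
    set x := h * t * h⁻¹ with hx
    have hxK : ∀ K : Ω, x • K = K := fun K => by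
      rw [hx, mul_smul, mul_smul, htriv, smul_inv_smul]
    set K : Ω := h • i₀ with hKdef
    have h1 := hcomp Finset.univ W x hW K
    have h2 := hcomp Finset.univ W 1 hW K
    rw [he, hxK, if_pos (Finset.mem_univ _)] at h1
    rw [one_smul, act_one, if_pos (Finset.mem_univ _), act_one] at h2
    rw [h2] at h1
    have h3 : ρ x (W K) = W K := by
      refine (sub_eq_zero.mp (card_nsmul_eq_zero hV (hbp K) ?_)).symm
      rw [nsmul_sub, sub_eq_zero]
      exact h1
    have hKo : K ∈ MulAction.orbit H i₀ := MulAction.mem_orbit i₀ h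
    simp only [W, dif_pos hKo] at h3
    set q := r ⟨K, hKo⟩ with hq
    have hqK : q • i₀ = K := hr ⟨K, hKo⟩
    refine hwmove (q⁻¹ * h) (MulAction.mem_stabilizer_iff.mpr ?_) ?_
    · rw [mul_smul, inv_smul_eq_iff, hqK]
    · apply act_injective ρ q
      rw [← act_mul]
      calc ρ (q * (q⁻¹ * h * t * (q⁻¹ * h)⁻¹)) w = ρ (x * q) w := by
            congr 2; rw [hx]; group
        _ = ρ q w := by rw [act_mul, h3]
  · -- `t` moves some block
    push Not at htriv
    obtain ⟨K₀, hK₀⟩ := htriv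
    obtain ⟨S, hS⟩ := exists_regular_set hp2 hP Ω
    choose W hW hW0 using fun K : Ω => (AddSubgroup.bot_or_exists_ne_zero _).resolve_left K.2.2
    refine ⟨∑ K ∈ S.toFinset, W K, fun h he => ?_⟩
    set x := h * t * h⁻¹ with hx
    have hxP : x ∈ P := hPn.conj_mem t ht h
    have hsub : x • S ⊆ S := by
      rintro _ ⟨K, hK, rfl⟩
      by_contra hxK
      have h1 := hcomp S.toFinset W x hW K
      have h2 := hcomp S.toFinset W 1 hW (x • K)
      rw [he, if_pos (Set.mem_toFinset.mpr hK)] at h1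
      rw [one_smul, act_one, if_neg (fun hm => hxK (Set.mem_toFinset.mp hm))] at h2
      rw [h2] at h1
      exact hW0 K (act_injective ρ x
        ((card_nsmul_eq_zero hV (hbp (x • K)) h1.symm).trans (map_zero _).symm))
    have heq : (⟨x, hxP⟩ : P) • S = S :=
      Set.eq_of_subset_of_ncard_le hsub (Set.ncard_smul_set _ _).ge (Set.toFinite _)
    refine hK₀ ?_
    have h3 : x • (h • K₀) = h • K₀ := hS ⟨x, hxP⟩ heq (h • K₀)
    rw [hx, mul_smul, mul_smul, inv_smul_smul] at h3
    exact MulAction.injective h h3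

theorem movedBelow (hp2 : p ≠ 2) : ∀ n, MovedBelow.{u, v} p n := by
  intro n
  induction n with
  | zero => intro H _ _ V _ _ h; exact absurd h (Nat.not_le.mpr Nat.card_pos)
  | succ n ih =>
    intro H₀ _ _ V _ _ hVn hV ρ₀ P₀ hP₀n hP₀ t₀ ht₀ ht₀1
    -- pass to the faithful quotient
    suffices key : ∀ (H : Type u) [Group H] [Finite H] (ρ : H →* AddMonoid.End V) (P : Subgroup H),
        P.Normal → IsPGroup p P → (∀ h, ρ h = 1 → h = 1) →
        ∀ t ∈ P, t ≠ 1 → ∃ v, ∀ h : H, ρ (h * t * h⁻¹) v ≠ v by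
      let π := QuotientGroup.mk' ρ₀.ker
      obtain ⟨v, hv⟩ := key (H₀ ⧸ ρ₀.ker) (QuotientGroup.lift _ ρ₀ le_rfl) (P₀.map π)
        (hP₀n.map π (QuotientGroup.mk'_surjective _)) (hP₀.map π)
        (fun h => by
          induction h using QuotientGroup.induction_on with
          | H a => exact fun ha => (QuotientGroup.eq_one_iff a).mpr ha)
        (π t₀) (mem_map_of_mem π ht₀) (fun h => ht₀1 ((QuotientGroup.eq_one_iff t₀).mp h))
      exact ⟨v, fun h => hv (π h)⟩
    clear! H₀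
    intro H _ _ ρ P hPn hP hfaith t₀ ht₀ ht₀1
    -- pass to an element of order `p`
    obtain ⟨k, hk⟩ : ∃ k, orderOf t₀ = p ^ (k + 1) := by
      obtain ⟨k, hk⟩ := IsPGroup.iff_orderOf.mp hP ⟨t₀, ht₀⟩
      rw [Subgroup.orderOf_mk] at hk
      rcases k with _ | k
      · rw [pow_zero, orderOf_eq_one_iff] at hk; exact absurd hk ht₀1
      · exact ⟨k, hk⟩
    suffices ∀ t ∈ P, t ≠ 1 → t ^ p = 1 → ∃ v, ∀ h : H, ρ (h * t * h⁻¹) v ≠ v by
      obtain ⟨v, hv⟩ := this (t₀ ^ p ^ k) (pow_mem ht₀ _)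
        (fun h => by
          have := orderOf_dvd_of_pow_eq_one h
          rw [hk, Nat.pow_dvd_pow_iff_le_right hp.out.one_lt] at this
          omega)
        (by rw [← pow_mul, ← pow_succ, ← hk, pow_orderOf_eq_one])
      exact ⟨v, fun h he => hv h (by rw [← conj_pow]; exact act_pow_fixed ρ he _)⟩
    intro t ht ht1 htp
    have hVnt : Nontrivial V := by
      by_contra hnt
      rw [not_nontrivial_iff_subsingleton] at hnt
      exact ht1 (hfaith t (act_eq_one ρ fun v => Subsingleton.elim _ _))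
    by_cases hirr : ∀ U : AddSubgroup V, (∀ h, ∀ v ∈ U, ρ h v ∈ U) →
        (∀ v ∈ U, ρ t v = v) ∨ U = ⊤
    swap
    · push Not at hirr
      obtain ⟨U, hU, hmove, hne⟩ := hirr
      obtain ⟨v, -, hv⟩ := MovedBelow.apply ih hVn hV ρ ⊤ U (fun h _ => hU h) hne P hP ht
        trivial hmove
      exact ⟨v, fun h => hv h trivial⟩
    -- the normal closure of `t` has no fixed points
    let M : Subgroup H := Subgroup.normalClosure {t}
    have htM : t ∈ M := Subgroup.subset_normalClosure rfl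
    have hMn : M.Normal := Subgroup.normalClosure_normal
    have hMp : IsPGroup p M :=
      hP.to_le (Subgroup.normalClosure_le_normal (Set.singleton_subset_iff.mpr ht))
    have hfixM : fixed ρ M = ⊥ := by
      let U : AddSubgroup V := (avg ρ M : V →+ V).ker
      have hMinv : ∀ h : H, ∀ b ∈ M, h * b * h⁻¹ ∈ M := fun h b hb => hMn.conj_mem b hb h
      have hU : ∀ h, ∀ v ∈ U, ρ h v ∈ U := fun h v hv => by
        show avg ρ M (ρ h v) = 0
        rw [← act_avg ρ (hMinv h), show avg ρ M v = 0 from hv, map_zero]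
      rcases hirr U hU with hfx | htop
      · exfalso
        refine ht1 (hfaith t (act_eq_one ρ fun v => ?_))
        refine (sub_eq_zero.mp (card_nsmul_eq_zero hV hMp ?_)).symm
        have hmem : Nat.card M • v - avg ρ M v ∈ U := by
          show avg ρ M (Nat.card M • v - avg ρ M v) = 0
          rw [map_sub, map_nsmul, avg_of_mem ρ (avg_mem ρ M v), sub_self]
        have h1 := hfx _ hmem
        rw [map_sub, avg_mem ρ M v t htM, sub_left_inj, map_nsmul] at h1
        rw [nsmul_sub, h1, sub_self]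
      · refine (AddSubgroup.eq_bot_iff_forall _).mpr fun v hv => card_nsmul_eq_zero hV hMp ?_
        rw [← avg_of_mem ρ hv]
        exact (htop ▸ AddSubgroup.mem_top v : v ∈ U)
    have hirr' : ∀ U : AddSubgroup V, (∀ h, ∀ v ∈ U, ρ h v ∈ U) → U = ⊥ ∨ U = ⊤ := by
      intro U hU
      refine (hirr U hU).imp_left fun hfx => eq_bot_iff.mpr fun v hv => ?_
      rw [← hfixM]
      let S : Subgroup H :=
        { carrier := {h | ∀ v ∈ U, ρ h v = v}
          one_mem' := fun v _ => act_one ρ v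
          mul_mem' := fun {a b} ha hb v hv => by rw [act_mul, hb v hv, ha v hv]
          inv_mem' := fun {a} ha v hv => act_inv_fixed ρ (ha v hv) }
      have hSn : S.Normal := ⟨fun a ha g v hv => by
        rw [act_mul, act_mul, ha _ (hU g⁻¹ v hv), act_act_inv]⟩
      have hMS : M ≤ S := Subgroup.normalClosure_le_normal (Set.singleton_subset_iff.mpr hfx)
      exact fun b hb => hMS hb v hv
    have hfix : ∀ B : Subgroup H, B.Normal → B ≠ ⊥ → fixed ρ B = ⊥ := by
      intro B hB hBne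
      refine (hirr' (fixed ρ B) fun h v hv b hb => ?_).resolve_right fun htop => hBne ?_
      · rw [show b = h * (h⁻¹ * b * h) * h⁻¹ by group, ← act_mul,
          show h * (h⁻¹ * b * h) * h⁻¹ * h = h * (h⁻¹ * b * h) by group, act_mul,
          hv _ (by simpa using hB.conj_mem b hb h⁻¹)]
      · exact (Subgroup.eq_bot_iff_forall _).mpr fun b hb =>
          hfaith b (act_eq_one ρ fun v => (htop ▸ AddSubgroup.mem_top v : v ∈ fixed ρ B) b hb)
    by_cases hA : ∃ A : Subgroup H, A.Normal ∧ A ≤ P ∧ (∀ a ∈ A, ∀ b ∈ A, a * b = b * a) ∧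
        (∀ a ∈ A, a ^ p = 1) ∧ p < Nat.card A
    · obtain ⟨A, hAn, hAP, hAc, hAe, hAcard⟩ := hA
      exact exists_moved_of_noncyclic ρ hp2 ih hVn hV hVnt hfaith hirr' hfix P hP A hAP hAc hAe
        hAcard ht ht1
    · push Not at hA
      exact exists_moved_of_cyclic ρ hp2 hV P hP hfix
        (fun B hB hBP hc he => hA B hB hBP hc he) hVnt ht ht1 htp

/-- Coprime action: some vector is moved by every conjugate of a nontrivially acting element of a
normal `p`-subgroup, `p` odd. -/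
theorem exists_moved_by_all_conjugates (hp2 : p ≠ 2) (hV : ¬ p ∣ Nat.card V)
    (ρ : H →* AddMonoid.End V) (P : Subgroup H) [P.Normal] (hP : IsPGroup p P) {t : H}
    (ht : t ∈ P) (ht1 : ρ t ≠ 1) : ∃ v, ∀ h : H, ρ (h * t * h⁻¹) v ≠ v :=
  movedBelow hp2 _ H V le_rfl hV ρ P inferInstance hP t ht ht1

end Cfsg.Agent.Lib.ClassFixed58
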